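import Mathlib
import Cfsg.Prelude.Def_MonsterType

/-! Elementary facts about extraspecial and large extraspecial 2-subgroups. -/

set_option autoImplicit false

namespace CfsgLib.LargeXS

open Subgroup

variable {G : Type*} [Group G]

/-- `O_p(G)` is a `p`-group. -/
theorem pCore_isPGroup (p : ℕ) (G : Type*) [Group G] [Finite G] : IsPGroup p (Cfsg.pCore p G) := by
  have key : ∀ S : Set (Subgroup G), S.Finite → (∀ N ∈ S, N.Normal ∧ IsPGroup p N) →
      (sSup S).Normal ∧ IsPGroup p (sSup S : Subgroup G) := by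
    intro S hS
    induction S, hS using Set.Finite.induction_on with
    | empty =>
      intro _
      rw [sSup_empty]
      exact ⟨inferInstance, IsPGroup.of_bot⟩
    | @insert a s _ _ ih =>
      intro h
      obtain ⟨ha, hap⟩ := h a (Set.mem_insert _ _)
      obtain ⟨hs, hsp⟩ := ih fun N hN => h N (Set.mem_insert_of_mem _ hN)
      rw [sSup_insert]
      haveI := ha
      haveI := hs
      exact ⟨Subgroup.sup_normal _ _, hap.to_sup_of_normal_right hsp⟩
  exact (key _ (Set.toFinite _) fun N hN => hN).2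

/-- An element of a 2-subgroup and of a subgroup of odd order is trivial. -/
theorem eq_one_of_mem_odd_two {P K : Subgroup G} (hP : IsPGroup 2 P) (hK : Odd (Nat.card K)) {x : G}
    (hxP : x ∈ P) (hxK : x ∈ K) : x = 1 := by
  obtain ⟨k, hk⟩ := hP ⟨x, hxP⟩
  have h1 : orderOf x ∣ 2 ^ k := by
    apply orderOf_dvd_of_pow_eq_one
    have := congrArg Subtype.val hk
    simpa using this
  have h2 : orderOf x ∣ Nat.card K := by
    have := orderOf_dvd_natCard (⟨x, hxK⟩ : K)
    simpa [Subgroup.orderOf_mk] using this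
  have h3 : Nat.Coprime (2 ^ k) (Nat.card K) :=
    Nat.Coprime.pow_left _ (Nat.coprime_two_left.2 hK)
  exact orderOf_eq_one_iff.1 (Nat.eq_one_of_dvd_coprimes h3 h1 h2)

/-- A subgroup of odd order normalized by `Q` and centralizing `Z(Q)` is trivial. -/
theorem eq_bot_of_le_centralizer_center {Q : Subgroup G} (hQ : Cfsg.IsExtraspecial 2 Q)
    (hC : Subgroup.centralizer (Q : Set G) = (Subgroup.center Q).map Q.subtype)
    (hN : Subgroup.centralizer (((Subgroup.center Q).map Q.subtype : Subgroup G) : Set G) ≤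
      Subgroup.normalizer (Q : Set G))
    {K : Subgroup G} (hK : Odd (Nat.card K)) (hQK : Q ≤ Subgroup.normalizer (K : Set G))
    (hKZ : K ≤ Subgroup.centralizer (((Subgroup.center Q).map Q.subtype : Subgroup G) : Set G)) :
    K = ⊥ := by
  have hP : IsPGroup 2 Q := hQ.1.1
  have hKQ : K ≤ Subgroup.centralizer (Q : Set G) := by
    intro k hk q hq
    have h1 : k * q * k⁻¹ * q⁻¹ ∈ Q :=
      Q.mul_mem ((Subgroup.mem_normalizer_iff.1 (hN (hKZ hk)) q).1 hq) (Q.inv_mem hq)
    have h2 : k * q * k⁻¹ * q⁻¹ ∈ K := by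
      have := (Subgroup.mem_normalizer_iff.1 (hQK hq) k⁻¹).1 (K.inv_mem hk)
      simpa [mul_assoc] using K.mul_mem hk this
    have h3 := eq_one_of_mem_odd_two hP hK h1 h2
    calc q * k = (k * q * k⁻¹ * q⁻¹) * (q * k) := by rw [h3, one_mul]
      _ = k * q := by group
  rw [eq_bot_iff]
  intro k hk
  have hkZ : k ∈ (Subgroup.center Q).map Q.subtype := hC ▸ hKQ hk
  exact eq_one_of_mem_odd_two hP hK (Subgroup.map_subtype_le _ hkZ) hk

end CfsgLib.LargeXS
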