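import Mathlib
import Cfsg.Prelude.Def_MonsterType

/-! An extraspecial 2-subgroup `Q` of a group, with its centre written as `⟨z⟩`. -/

set_option autoImplicit false

namespace CfsgLib.LargeXS

open Subgroup

theorem sq_mem_frattini {P : Type*} [Group P] [Finite P] (hP : IsPGroup 2 P) (x : P) :
    x * x ∈ frattini P := by
  haveI : Fact (Nat.Prime 2) := ⟨Nat.prime_two⟩
  haveI : Group.IsNilpotent P := hP.isNilpotent
  simp only [frattini, Order.radical, Subgroup.mem_iInf, Set.mem_setOf_eq]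
  intro M hM
  haveI : M.Normal := Group.normalizerCondition_of_isNilpotent.normal_of_coatom M hM
  obtain ⟨n, hn⟩ := hP.index M
  have hM1 : M ≠ ⊤ := hM.1
  -- the quotient has no proper nontrivial subgroup
  have hsimple : ∀ y : P ⧸ M, y ≠ 1 → Subgroup.zpowers y = ⊤ := by
    intro y hy
    obtain ⟨y, rfl⟩ := QuotientGroup.mk'_surjective M y
    have : M < M ⊔ Subgroup.zpowers y := by
      refine lt_of_le_of_ne le_sup_left fun h => hy ?_
      rw [QuotientGroup.mk'_apply, QuotientGroup.eq_one_iff, h]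
      exact Subgroup.mem_sup_right (Subgroup.mem_zpowers y)
    have h2 := congrArg (Subgroup.map (QuotientGroup.mk' M)) (hM.2 _ this)
    rwa [Subgroup.map_sup, MonoidHom.map_zpowers, QuotientGroup.map_mk'_self, bot_sup_eq,
      Subgroup.map_top_of_surjective _ (QuotientGroup.mk'_surjective M)] at h2
  by_contra hx
  have hx1 : (QuotientGroup.mk' M) (x * x) ≠ 1 := by
    rwa [QuotientGroup.mk'_apply, ne_eq, QuotientGroup.eq_one_iff]
  have hy : (QuotientGroup.mk' M) x ≠ 1 := fun h => hx1 (by rw [map_mul, h, mul_one])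
  set y := (QuotientGroup.mk' M) x with hydef
  have hyy : y * y ≠ 1 := by rwa [hydef, ← map_mul]
  have htop := hsimple (y * y) hyy
  have hord : orderOf (y * y) = orderOf y := by
    rw [← Nat.card_zpowers, ← Nat.card_zpowers, htop, hsimple y hy]
  obtain ⟨k, hk⟩ := (hP.to_quotient M).exists_card_eq
  have h2 : 2 ∣ orderOf y := (hP.to_quotient M).dvd_orderOf hy
  have := (orderOf_pos y)
  rw [← pow_two, orderOf_pow, Nat.gcd_eq_right h2] at hord
  omega

variable {G : Type*} [Group G] [Finite G] {Q : Subgroup G} {z : G}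
  (hQ : Cfsg.IsExtraspecial 2 Q) (hz : (Subgroup.center Q).map Q.subtype = Subgroup.zpowers z)

omit [Finite G] in
theorem exists_center_gen (hQ : Cfsg.IsExtraspecial 2 Q) :
    ∃ z : G, (Subgroup.center Q).map Q.subtype = Subgroup.zpowers z := by
  haveI : Fact (Nat.Prime 2) := ⟨Nat.prime_two⟩
  haveI : IsCyclic (Subgroup.center Q) := isCyclic_of_prime_card hQ.2
  obtain ⟨c, hc⟩ := IsCyclic.exists_generator (α := Subgroup.center Q)
  refine ⟨((c : Q) : G), le_antisymm ?_ (Subgroup.zpowers_le.2 ⟨c, c.2, rfl⟩)⟩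
  rintro _ ⟨x, hx, rfl⟩
  obtain ⟨k, hk⟩ := Subgroup.mem_zpowers_iff.1 (hc ⟨x, hx⟩)
  refine Subgroup.mem_zpowers_iff.2 ⟨k, ?_⟩
  have := congrArg (fun t : Subgroup.center Q => ((t : Q) : G)) hk
  simpa using this

include hQ hz

omit [Finite G] in
theorem orderOf_center : orderOf z = 2 := by
  rw [← Nat.card_zpowers, ← hz, Subgroup.card_map_of_injective Q.subtype_injective, hQ.2]

omit [Finite G] hQ in
theorem center_gen_mem : z ∈ Q :=
  Subgroup.map_subtype_le (Subgroup.center Q) (hz ▸ Subgroup.mem_zpowers z)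

omit [Finite G] hQ in
theorem mem_zpowers_iff_central {x : G} (hx : x ∈ Q) :
    x ∈ Subgroup.zpowers z ↔ ∀ q ∈ Q, q * x = x * q := by
  rw [← hz, Subgroup.mem_map]
  constructor
  · rintro ⟨c, hc, rfl⟩ q hq
    simpa using congrArg Subtype.val (Subgroup.mem_center_iff.1 hc ⟨q, hq⟩)
  · intro h
    exact ⟨⟨x, hx⟩, Subgroup.mem_center_iff.2 fun q => Subtype.ext (h q q.2), rfl⟩

omit [Finite G] hQ in
theorem commute_center_gen {q : G} (hq : q ∈ Q) : Commute q z :=
  (mem_zpowers_iff_central hz (center_gen_mem hz)).1 (Subgroup.mem_zpowers z) q hq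

omit [Finite G] in
theorem mem_zpowers_iff_eq {x : G} : x ∈ Subgroup.zpowers z ↔ x = 1 ∨ x = z := by
  refine ⟨fun hx => ?_, ?_⟩
  · obtain ⟨k, rfl⟩ := Subgroup.mem_zpowers_iff.1 hx
    have h2 : z ^ (2 : ℤ) = 1 := by
      rw [show (2 : ℤ) = ((2 : ℕ) : ℤ) from rfl, zpow_natCast, ← orderOf_center hQ hz,
        pow_orderOf_eq_one]
    rcases Int.even_or_odd' k with ⟨m, rfl | rfl⟩
    · left; rw [zpow_mul, h2, one_zpow]
    · right; rw [zpow_add_one, zpow_mul, h2, one_zpow, one_mul]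
  · rintro (rfl | rfl)
    · exact one_mem _
    · exact Subgroup.mem_zpowers _

omit [Finite G] in
theorem center_gen_ne_one : z ≠ 1 := fun h => by
  have := orderOf_center hQ hz; rw [h, orderOf_one] at this; norm_num at this

omit [Finite G] in
theorem center_gen_mul_self : z * z = 1 := by
  rw [← pow_two, ← orderOf_center hQ hz, pow_orderOf_eq_one]

omit [Finite G] in
theorem commutator_cases {x y : G} (hx : x ∈ Q) (hy : y ∈ Q) :
    x * y * x⁻¹ * y⁻¹ = 1 ∨ x * y * x⁻¹ * y⁻¹ = z := by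
  rw [← mem_zpowers_iff_eq hQ hz, ← hz]
  refine Subgroup.mem_map.2 ⟨⟨x, hx⟩ * ⟨y, hy⟩ * ⟨x, hx⟩⁻¹ * ⟨y, hy⟩⁻¹, ?_, rfl⟩
  rw [← hQ.1.2.2]
  exact Subgroup.commutator_mem_commutator (Subgroup.mem_top _) (Subgroup.mem_top _)

theorem sq_cases {x : G} (hx : x ∈ Q) : x * x = 1 ∨ x * x = z := by
  rw [← mem_zpowers_iff_eq hQ hz, ← hz]
  refine Subgroup.mem_map.2 ⟨⟨x, hx⟩ * ⟨x, hx⟩, ?_, rfl⟩
  rw [← hQ.1.2.1]
  exact sq_mem_frattini hQ.1.1 _

omit [Finite G] in
theorem conj_cases {x y : G} (hx : x ∈ Q) (hy : y ∈ Q) :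
    x * y * x⁻¹ = y ∨ x * y * x⁻¹ = y * z := by
  rcases commutator_cases hQ hz hx hy with h | h
  · exact Or.inl (mul_inv_eq_one.1 h)
  · refine Or.inr ?_
    rw [(commute_center_gen hz hy).eq, ← h]
    group

omit [Finite G] in
theorem exists_conj_eq_mul {y : G} (hy : y ∈ Q) (hy' : y ∉ Subgroup.zpowers z) :
    ∃ x ∈ Q, x * y * x⁻¹ = y * z := by
  by_contra h
  push Not at h
  refine hy' ((mem_zpowers_iff_central hz hy).2 fun q hq => ?_)
  rcases conj_cases hQ hz hq hy with h' | h'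
  · exact mul_inv_eq_iff_eq_mul.1 h'
  · exact absurd h' (h q hq)

/-- An element normalizing `Q` fixes `z`. -/
theorem conj_center_gen {g : G} (hg : g ∈ Subgroup.normalizer (Q : Set G)) : g * z * g⁻¹ = z := by
  have hmem : g * z * g⁻¹ ∈ Q := (Subgroup.mem_normalizer_iff.1 hg z).1 (center_gen_mem hz)
  have hc : g * z * g⁻¹ ∈ Subgroup.zpowers z := by
    rw [mem_zpowers_iff_central hz hmem]
    intro q hq
    have hq' : g⁻¹ * q * g ∈ Q := by
      have := (Subgroup.mem_normalizer_iff.1 (inv_mem hg) q).1 hq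
      simpa using this
    have := (commute_center_gen hz hq').eq
    calc q * (g * z * g⁻¹) = g * ((g⁻¹ * q * g) * z) * g⁻¹ := by group
      _ = g * (z * (g⁻¹ * q * g)) * g⁻¹ := by rw [this]
      _ = g * z * g⁻¹ * q := by group
  rcases (mem_zpowers_iff_eq hQ hz).1 hc with h | h
  · exact absurd (conj_eq_one_iff.1 h) (center_gen_ne_one hQ hz)
  · exact h

theorem normalizer_le_centralizer :
    Subgroup.normalizer (Q : Set G) ≤ Subgroup.centralizer ({z} : Set G) := fun g hg =>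
  Subgroup.mem_centralizer_singleton_iff.2 (mul_inv_eq_iff_eq_mul.1 (conj_center_gen hQ hz hg))

omit hQ [Finite G] in
theorem centralizer_zpowers : Subgroup.centralizer (((Subgroup.center Q).map Q.subtype : Subgroup G) : Set G)
    = Subgroup.centralizer ({z} : Set G) := by
  rw [hz, Subgroup.zpowers_eq_closure, Subgroup.centralizer_closure]

end CfsgLib.LargeXS
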