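import Mathlib
import Cfsg.Agent.Lib.LargeXSpecial.Basic
import Cfsg.Agent.Lib.LargeXSpecial.Extraspecial

/-! The pair (Q, z) of a self-centralizing extraspecial 2-subgroup normalized by the centralizer of its
central involution, handled elementwise, and two such conjugate pairs with each involution in the other group. -/

set_option autoImplicit false

namespace CfsgLib.LargeXS

open Subgroup

variable {G : Type*} [Group G]

/-- The elementwise content of: `Q` extraspecial with centre `⟨z⟩`, `C(Q) = ⟨z⟩`, `C(z) ≤ N(Q)`. -/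
structure XPair (Q : Subgroup G) (z : G) : Prop where
  mem : z ∈ Q
  ne_one : z ≠ 1
  mul_self : z * z = 1
  central : ∀ q ∈ Q, q * z = z * q
  comm : ∀ x ∈ Q, ∀ y ∈ Q, x * y * x⁻¹ * y⁻¹ = 1 ∨ x * y * x⁻¹ * y⁻¹ = z
  sq : ∀ x ∈ Q, x * x = 1 ∨ x * x = z
  selfCent : ∀ x : G, (∀ q ∈ Q, q * x = x * q) → x = 1 ∨ x = z
  norm : ∀ x : G, x * z = z * x → ∀ q ∈ Q, x * q * x⁻¹ ∈ Q
  two : IsPGroup 2 Q

theorem xpair_of [Finite G] {Q : Subgroup G} {z : G} (hQ : Cfsg.IsExtraspecial 2 Q)
    (hC : Subgroup.centralizer (Q : Set G) = (Subgroup.center Q).map Q.subtype)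
    (hN : Subgroup.centralizer (((Subgroup.center Q).map Q.subtype : Subgroup G) : Set G) ≤
      Subgroup.normalizer (Q : Set G))
    (hz : (Subgroup.center Q).map Q.subtype = Subgroup.zpowers z) : XPair Q z where
  mem := center_gen_mem hz
  ne_one := center_gen_ne_one hQ hz
  mul_self := center_gen_mul_self hQ hz
  central := fun _ hq => (commute_center_gen hz hq).eq
  comm := fun _ hx _ hy => commutator_cases hQ hz hx hy
  sq := fun _ hx => sq_cases hQ hz hx
  selfCent := fun x h => by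
    rw [← mem_zpowers_iff_eq hQ hz, ← hz, ← hC]
    exact h
  norm := fun x hx q hq => by
    have : x ∈ Subgroup.normalizer (Q : Set G) := by
      apply hN
      rw [centralizer_zpowers hz]
      exact Subgroup.mem_centralizer_singleton_iff.2 hx
    exact (Subgroup.mem_normalizer_iff.1 this q).1 hq
  two := hQ.1.1

/-- Membership in a conjugate subgroup. -/
theorem mem_map_conj {H : Subgroup G} {g x : G} :
    x ∈ H.map (MulAut.conj g).toMonoidHom ↔ g⁻¹ * x * g ∈ H := by
  rw [Subgroup.mem_map]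
  constructor
  · rintro ⟨y, hy, rfl⟩
    simpa [MulAut.conj_apply, mul_assoc] using hy
  · intro h
    exact ⟨g⁻¹ * x * g, h, by simp [MulAut.conj_apply, mul_assoc]⟩

namespace XPair

variable {Q : Subgroup G} {z : G}

theorem conjugate (h : XPair Q z) (g : G) :
    XPair (Q.map (MulAut.conj g).toMonoidHom) (g * z * g⁻¹) := by
  have conv : ∀ a b : G, g⁻¹ * a * g = b ↔ a = g * b * g⁻¹ := fun a b => by
    constructor <;> intro e <;> subst e <;> group
  refine ⟨?_, ?_, ?_, ?_, ?_, ?_, ?_, ?_, h.two.map _⟩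
  · rw [mem_map_conj]; simpa [mul_assoc] using h.mem
  · exact fun e => h.ne_one (conj_eq_one_iff.1 e)
  · calc g * z * g⁻¹ * (g * z * g⁻¹) = g * (z * z) * g⁻¹ := by group
      _ = 1 := by rw [h.mul_self]; group
  · intro q hq
    rw [mem_map_conj] at hq
    have := h.central _ hq
    calc q * (g * z * g⁻¹) = g * ((g⁻¹ * q * g) * z) * g⁻¹ := by group
      _ = g * (z * (g⁻¹ * q * g)) * g⁻¹ := by rw [this]
      _ = g * z * g⁻¹ * q := by group
  · intro x hx y hy
    rw [mem_map_conj] at hx hy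
    have e : g⁻¹ * (x * y * x⁻¹ * y⁻¹) * g
        = (g⁻¹ * x * g) * (g⁻¹ * y * g) * (g⁻¹ * x * g)⁻¹ * (g⁻¹ * y * g)⁻¹ := by group
    rcases h.comm _ hx _ hy with h' | h'
    · rw [← e, conv] at h'
      exact Or.inl (by simpa using h')
    · rw [← e, conv] at h'
      exact Or.inr h'
  · intro x hx
    rw [mem_map_conj] at hx
    have e : g⁻¹ * (x * x) * g = (g⁻¹ * x * g) * (g⁻¹ * x * g) := by group
    rcases h.sq _ hx with h' | h'
    · rw [← e, conv] at h'
      exact Or.inl (by simpa using h')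
    · rw [← e, conv] at h'
      exact Or.inr h'
  · intro x hx
    have : ∀ q ∈ Q, q * (g⁻¹ * x * g) = g⁻¹ * x * g * q := fun q hq => by
      have := hx (g * q * g⁻¹) (mem_map_conj.2 (by simpa [mul_assoc] using hq))
      calc q * (g⁻¹ * x * g) = g⁻¹ * ((g * q * g⁻¹) * x) * g := by group
        _ = g⁻¹ * (x * (g * q * g⁻¹)) * g := by rw [this]
        _ = g⁻¹ * x * g * q := by group
    rcases h.selfCent _ this with h' | h'
    · exact Or.inl (by simpa using (conv _ _).1 h')
    · exact Or.inr ((conv _ _).1 h')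
  · intro x hx q hq
    rw [mem_map_conj] at hq ⊢
    have h1 : (g⁻¹ * x * g) * z = z * (g⁻¹ * x * g) := by
      calc (g⁻¹ * x * g) * z = g⁻¹ * (x * (g * z * g⁻¹)) * g := by group
        _ = g⁻¹ * ((g * z * g⁻¹) * x) * g := by rw [hx]
        _ = z * (g⁻¹ * x * g) := by group
    have := h.norm _ h1 _ hq
    convert this using 1
    group

variable (h : XPair Q z)
include h

theorem conj_cases {x y : G} (hx : x ∈ Q) (hy : y ∈ Q) :
    x * y * x⁻¹ = y ∨ x * y * x⁻¹ = y * z := by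
  rcases h.comm x hx y hy with h' | h'
  · exact Or.inl (mul_inv_eq_one.1 h')
  · exact Or.inr (by rw [h.central y hy, ← h']; group)

theorem exists_conj_eq_mul {y : G} (hy : y ∈ Q) (h1 : y ≠ 1) (h2 : y ≠ z) :
    ∃ x ∈ Q, x * y * x⁻¹ = y * z := by
  by_contra hcon
  push Not at hcon
  have hc : ∀ q ∈ Q, q * y = y * q := fun q hq =>
    mul_inv_eq_iff_eq_mul.1 ((h.conj_cases hq hy).resolve_right (hcon q hq))
  rcases h.selfCent y hc with e | e
  · exact h1 e
  · exact h2 e

theorem le_normalizer (x : G) (hx : x * z = z * x) : x ∈ Subgroup.normalizer (Q : Set G) := by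
  have hx' : x⁻¹ * z = z * x⁻¹ := (Commute.inv_left hx : Commute x⁻¹ z)
  refine Subgroup.mem_normalizer_iff.2 fun q => ⟨fun hq => h.norm x hx q hq, fun hq => ?_⟩
  simpa [mul_assoc] using h.norm _ hx' _ hq

/-- A subgroup of odd order normalized by `Q` meets the centralizer of `z` trivially. -/
theorem eq_one_of_odd {K : Subgroup G} (hK : Odd (Nat.card K))
    (hQK : Q ≤ Subgroup.normalizer (K : Set G)) {k : G} (hk : k ∈ K) (hkz : k * z = z * k) : k = 1 := by
  have hkQ : ∀ q ∈ Q, q * k = k * q := by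
    intro q hq
    have h1 : k * q * k⁻¹ * q⁻¹ ∈ Q := Q.mul_mem (h.norm k hkz q hq) (Q.inv_mem hq)
    have h2 : k * q * k⁻¹ * q⁻¹ ∈ K := by
      have := (Subgroup.mem_normalizer_iff.1 (hQK hq) k⁻¹).1 (K.inv_mem hk)
      simpa [mul_assoc] using K.mul_mem hk this
    have h3 := eq_one_of_mem_odd_two h.two hK h1 h2
    calc q * k = (k * q * k⁻¹ * q⁻¹) * (q * k) := by rw [h3, one_mul]
      _ = k * q := by group
  rcases h.selfCent k hkQ with e | e
  · exact e
  · exact eq_one_of_mem_odd_two h.two hK (e ▸ h.mem) hk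

/-- A subgroup of odd order normalized by `Q` on which a non-central involution of `Q` has no fixed point
is trivial. -/
theorem eq_bot_of_fixed_point_free [Finite G] {K : Subgroup G} (hK : Odd (Nat.card K))
    (hQK : Q ≤ Subgroup.normalizer (K : Set G)) {v : G} (hv : v ∈ Q) (hv2 : v * v = 1)
    (hv1 : v ≠ 1) (hvz : v ≠ z) (hfpf : ∀ k ∈ K, k * v = v * k → k = 1) : K = ⊥ := by
  obtain ⟨q, hq, hqv⟩ := h.exists_conj_eq_mul hv hv1 hvz
  have hnorm : ∀ a ∈ Q, ∀ k ∈ K, a * k * a⁻¹ ∈ K := fun a ha k hk =>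
    (Subgroup.mem_normalizer_iff.1 (hQK ha) k).1 hk
  have inv_of : ∀ t ∈ Q, t * t = 1 → (∀ k ∈ K, k * t = t * k → k = 1) →
      ∀ k ∈ K, t * k * t⁻¹ = k⁻¹ := by
    intro t ht ht2 hf k hk
    let φ : K → K := fun k => ⟨t * k * t⁻¹, hnorm t ht k k.2⟩
    let ψ : K →* K :=
      { toFun := φ
        map_one' := by ext; simp [φ]
        map_mul' := fun a b => by ext; simp [φ, mul_assoc] }
    have h1 : MonoidHom.FixedPointFree ψ := by
      intro a ha
      have e : t * (a : G) * t⁻¹ = a := congrArg Subtype.val ha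
      exact Subtype.ext (hf a a.2 (mul_inv_eq_iff_eq_mul.1 e).symm)
    have h2 : Function.Involutive ψ := by
      intro a
      apply Subtype.ext
      show t * (t * (a : G) * t⁻¹) * t⁻¹ = a
      calc t * (t * (a : G) * t⁻¹) * t⁻¹ = (t * t) * a * (t * t)⁻¹ := by group
        _ = a := by rw [ht2]; group
    exact congrArg Subtype.val (congrFun (h1.coe_eq_inv_of_involutive h2) ⟨k, hk⟩)
  have hvzc : v * z = z * v := h.central v hv
  have hvz2 : (v * z) * (v * z) = 1 := by
    calc (v * z) * (v * z) = v * (z * v) * z := by group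
      _ = v * v * (z * z) := by rw [← hvzc]; group
      _ = 1 := by rw [hv2, h.mul_self, one_mul]
  have hfpf' : ∀ k ∈ K, k * (v * z) = v * z * k → k = 1 := by
    intro k hk hkc
    have h1 : q⁻¹ * k * q ∈ K := by simpa using hnorm q⁻¹ (Q.inv_mem hq) k hk
    have := hfpf _ h1 (by
      calc q⁻¹ * k * q * v = q⁻¹ * (k * (q * v * q⁻¹)) * q := by group
        _ = q⁻¹ * ((q * v * q⁻¹) * k) * q := by rw [hqv, hkc]
        _ = v * (q⁻¹ * k * q) := by group)
    calc k = q * (q⁻¹ * k * q) * q⁻¹ := by group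
      _ = 1 := by rw [this]; group
  rw [eq_bot_iff]
  intro k hk
  refine h.eq_one_of_odd hK hQK hk ?_
  have e1 := inv_of v hv hv2 hfpf k hk
  have e2 := inv_of (v * z) (Q.mul_mem hv h.mem) hvz2 hfpf' k⁻¹ (K.inv_mem hk)
  rw [inv_inv] at e2
  -- `z = v * (v * z)` fixes `k`
  have e3 : z * k * z⁻¹ = k := by
    calc z * k * z⁻¹ = (v * v) * z * k * z⁻¹ * (v * v)⁻¹ := by rw [hv2]; group
      _ = v * ((v * z) * k * (v * z)⁻¹) * v⁻¹ := by group
      _ = v * k⁻¹ * v⁻¹ := by
        rw [show (v * z) * k * (v * z)⁻¹ = ((v * z) * k⁻¹ * (v * z)⁻¹)⁻¹ by group, e2]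
      _ = (v * k * v⁻¹)⁻¹ := by group
      _ = k := by rw [e1, inv_inv]
  exact (mul_inv_eq_iff_eq_mul.1 e3).symm

/-- If `C(g z g⁻¹)` and `C(z)` are two such centralizers with `v = g z g⁻¹` in `Q`, then `z` is in `Q` conjugated by `g`. -/
theorem mem_conjugate_of_mem [Finite G] {g : G} (hgQ : g * z * g⁻¹ ∈ Q) (hne : g * z * g⁻¹ ≠ z)
    (hcard : 16 ≤ Nat.card Q) : z ∈ Q.map (MulAut.conj g).toMonoidHom := by
  classical
  set v := g * z * g⁻¹ with hv
  set Qv := Q.map (MulAut.conj g).toMonoidHom with hQv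
  have hv' : XPair Qv v := h.conjugate g
  by_contra hzQ
  have hv1 : v ≠ 1 := hv'.ne_one
  obtain ⟨x0, hx0, hx0v⟩ := h.exists_conj_eq_mul hgQ hv1 hne
  have hzv : z * v = v * z := (h.central v hgQ).symm
  -- elements of `Q` commuting with `C_Q(v)`
  have claim0 : ∀ e ∈ Q, (∀ q ∈ Q, q * v = v * q → q * e = e * q) →
      e = 1 ∨ e = z ∨ e = v ∨ e = v * z := by
    intro e he hq0
    have split : ∀ q ∈ Q, q * v = v * q ∨ (x0⁻¹ * q) * v = v * (x0⁻¹ * q) := by
      intro q hq
      rcases h.conj_cases hq hgQ with e1 | e1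
      · exact Or.inl (mul_inv_eq_iff_eq_mul.1 e1)
      · refine Or.inr (mul_inv_eq_iff_eq_mul.1 ?_)
        calc x0⁻¹ * q * v * (x0⁻¹ * q)⁻¹ = x0⁻¹ * (q * v * q⁻¹) * x0 := by group
          _ = x0⁻¹ * (x0 * v * x0⁻¹) * x0 := by rw [e1, hx0v]
          _ = v := by group
    have full : ∀ f ∈ Q, (∀ q ∈ Q, q * v = v * q → q * f = f * q) → x0 * f = f * x0 → f = 1 ∨ f = z := by
      intro f _ hf hx0f
      refine h.selfCent f fun q hq => ?_
      rcases split q hq with h' | h'
      · exact hf q hq h'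
      · have c1 : Commute (x0⁻¹ * q) f := hf _ (Q.mul_mem (Q.inv_mem hx0) hq) h'
        have c2 := (Commute.mul_left (show Commute x0 f from hx0f) c1).eq
        simpa using c2
    rcases h.conj_cases hx0 he with e1 | e1
    · rcases full e he hq0 (mul_inv_eq_iff_eq_mul.1 e1) with h' | h'
      · exact Or.inl h'
      · exact Or.inr (Or.inl h')
    · have hev : x0 * (e * v) = (e * v) * x0 := by
        refine mul_inv_eq_iff_eq_mul.1 ?_
        calc x0 * (e * v) * x0⁻¹ = (x0 * e * x0⁻¹) * (x0 * v * x0⁻¹) := by group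
          _ = e * (z * v) * z := by rw [e1, hx0v]; group
          _ = e * v * (z * z) := by rw [hzv]; group
          _ = e * v := by rw [h.mul_self, mul_one]
      have hv2 : v⁻¹ = v := inv_eq_of_mul_eq_one_right hv'.mul_self
      rcases full (e * v) (Q.mul_mem he hgQ)
        (fun q hq hqv => (Commute.mul_right (hq0 q hq hqv) hqv).eq) hev with h' | h'
      · exact Or.inr (Or.inr (Or.inl (by rw [eq_inv_of_mul_eq_one_left h', hv2])))
      · refine Or.inr (Or.inr (Or.inr ?_))
        calc e = e * v * v⁻¹ := by group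
          _ = v * z := by rw [h', hv2, hzv]
  -- `C_Q(v)` is not abelian
  obtain ⟨a, ha, hav, b, hb, hbv, hab⟩ : ∃ a ∈ Q, a * v = v * a ∧ ∃ b ∈ Q, b * v = v * b ∧
      a * b * a⁻¹ * b⁻¹ = z := by
    by_contra hcon
    push Not at hcon
    have hsub : ∀ q ∈ Q, q ∈ ({1, z, v, v * z} : Finset G) ∪ ({1, z, v, v * z} : Finset G).image (x0 * ·) := by
      intro q hq
      have hmem : ∀ e ∈ Q, e * v = v * e → e ∈ ({1, z, v, v * z} : Finset G) := by
        intro e he hev
        have := claim0 e he fun r hr hrv =>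
          mul_inv_eq_iff_eq_mul.1 (mul_inv_eq_one.1 ((h.comm r hr e he).resolve_right (hcon r hr hrv e he hev)))
        simpa using this
      rcases h.conj_cases hq hgQ with e1 | e1
      · exact Finset.mem_union_left _ (hmem q hq (mul_inv_eq_iff_eq_mul.1 e1))
      · refine Finset.mem_union_right _ (Finset.mem_image.2 ⟨x0⁻¹ * q, hmem _ (Q.mul_mem (Q.inv_mem hx0) hq)
          (mul_inv_eq_iff_eq_mul.1 ?_), by group⟩)
        calc x0⁻¹ * q * v * (x0⁻¹ * q)⁻¹ = x0⁻¹ * (q * v * q⁻¹) * x0 := by group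
          _ = x0⁻¹ * (x0 * v * x0⁻¹) * x0 := by rw [e1, hx0v]
          _ = v := by group
    have hle : Nat.card Q ≤ 8 := by
      let S := ({1, z, v, v * z} : Finset G) ∪ ({1, z, v, v * z} : Finset G).image (x0 * ·)
      have h1 : Nat.card Q ≤ S.card := by
        rw [← Nat.card_eq_finsetCard]
        exact Nat.card_le_card_of_injective (fun q : Q => (⟨q, hsub q q.2⟩ : S))
          fun a b e => Subtype.ext (by simpa using congrArg Subtype.val e)
      have h4 : ({1, z, v, v * z} : Finset G).card ≤ 4 := Finset.card_le_four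
      have h3 := Finset.card_union_le ({1, z, v, v * z} : Finset G)
        (({1, z, v, v * z} : Finset G).image (x0 * ·))
      have h2 := Finset.card_image_le (f := (x0 * ·)) (s := ({1, z, v, v * z} : Finset G))
      have h5 : S.card ≤ 8 := by
        show (_ ∪ _ : Finset G).card ≤ 8
        omega
      omega
    omega
  -- the intersection is `⟨v⟩`
  have claim1 : ∀ e ∈ Q, e ∈ Qv → e = 1 ∨ e = v := by
    intro e he hev
    have hc : ∀ q ∈ Q, q * v = v * q → q * e = e * q := by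
      intro q hq hqv
      have h1 : q * e * q⁻¹ * e⁻¹ ∈ Qv := Qv.mul_mem (hv'.norm q hqv e hev) (Qv.inv_mem hev)
      rcases h.comm q hq e he with h' | h'
      · exact mul_inv_eq_iff_eq_mul.1 (mul_inv_eq_one.1 h')
      · exact absurd (h' ▸ h1) hzQ
    rcases claim0 e he hc with e1 | e1 | e1 | e1
    · exact Or.inl e1
    · exact absurd (e1 ▸ hev) hzQ
    · exact Or.inr e1
    · exfalso
      apply hzQ
      have := Qv.mul_mem hv'.mem (e1 ▸ hev)
      rwa [← mul_assoc, hv'.mul_self, one_mul] at this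
  -- elements fixed by `z` modulo `v` are fixed
  have hzz : z⁻¹ = z := inv_eq_of_mul_eq_one_right h.mul_self
  have hQvz : ∀ x ∈ Qv, z * x * z⁻¹ ∈ Qv := fun x hx => hv'.norm z hzv x hx
  have A1 : ∀ x ∈ Qv, z * x * z⁻¹ = x * v → False := by
    intro x hx e
    have hxz : x * z * x⁻¹ = v * z := by
      calc x * z * x⁻¹ = v⁻¹ * ((x * v) * z * x⁻¹) := by
            rw [hv'.central x hx]; group
        _ = v⁻¹ * (z * x * z⁻¹ * z * x⁻¹) := by rw [e]
        _ = v * z := by rw [inv_eq_of_mul_eq_one_right hv'.mul_self]; group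
    have hxv : x * v * x⁻¹ = v := mul_inv_eq_iff_eq_mul.2 (hv'.central x hx)
    have hxvz : x * (v * z) * x⁻¹ = z := by
      calc x * (v * z) * x⁻¹ = (x * v * x⁻¹) * (x * z * x⁻¹) := by group
        _ = (v * v) * z := by rw [hxv, hxz]; group
        _ = z := by rw [hv'.mul_self, one_mul]
    have hq0z : x0 * z * x0⁻¹ = z := mul_inv_eq_iff_eq_mul.2 (h.central x0 hx0)
    have hq0vz : x0 * (v * z) * x0⁻¹ = v := by
      calc x0 * (v * z) * x0⁻¹ = (x0 * v * x0⁻¹) * (x0 * z * x0⁻¹) := by group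
        _ = v * (z * z) := by rw [hx0v, hq0z]; group
        _ = v := by rw [h.mul_self, mul_one]
    set s := x0 * x * x0 with hs
    have hsz : s * z * s⁻¹ = v := by
      calc s * z * s⁻¹ = x0 * (x * (x0 * z * x0⁻¹) * x⁻¹) * x0⁻¹ := by rw [hs]; group
        _ = v := by rw [hq0z, hxz, hq0vz]
    have hsv : s * v * s⁻¹ = z := by
      calc s * v * s⁻¹ = x0 * (x * (x0 * v * x0⁻¹) * x⁻¹) * x0⁻¹ := by rw [hs]; group
        _ = z := by rw [hx0v, hxvz, hq0z]
    apply hzQ
    have hc : (g⁻¹ * s) * z = z * (g⁻¹ * s) := by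
      calc g⁻¹ * s * z = g⁻¹ * (s * z * s⁻¹) * s := by group
        _ = g⁻¹ * (g * z * g⁻¹) * s := by rw [hsz, hv]
        _ = z * (g⁻¹ * s) := by group
    rw [mem_map_conj, ← hsv]
    have := h.norm _ hc v hgQ
    convert this using 1
    group
  have Pmem : ∀ x ∈ Qv, (z * x * z⁻¹ = x ∨ z * x * z⁻¹ = x * v) → z * x = x * z := by
    intro x hx e
    rcases e with e | e
    · exact mul_inv_eq_iff_eq_mul.1 e
    · exact (A1 x hx e).elim
  have cent : ∀ p ∈ Qv, p * z = z * p → ∀ q ∈ Q, q * v = v * q →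
      q * p * q⁻¹ = p ∨ q * p * q⁻¹ = p * v := by
    intro p hp hpz q hq hqv
    have h1 : p⁻¹ * (q * p * q⁻¹) ∈ Qv := Qv.mul_mem (Qv.inv_mem hp) (hv'.norm q hqv p hp)
    have h2 : p⁻¹ * (q * p * q⁻¹) ∈ Q := by
      have := h.norm p⁻¹ ((Commute.inv_left hpz : Commute p⁻¹ z)) q hq
      rw [inv_inv] at this
      convert Q.mul_mem this (Q.inv_mem hq) using 1
      group
    rcases claim1 _ h2 h1 with e | e
    · exact Or.inl (inv_mul_eq_one.1 e).symm
    · exact Or.inr (inv_mul_eq_iff_eq_mul.1 e)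
  -- `C(P) ≤ P`
  have hPcent : ∀ y ∈ Qv, (∀ p ∈ Qv, p * z = z * p → p * y = y * p) → y * z = z * y := by
    intro y hy hyP
    have hkey : ∀ x ∈ Qv, x * (y⁻¹ * (z * y * z⁻¹)) = y⁻¹ * (z * y * z⁻¹) * x := by
      intro x hx
      set t := x⁻¹ * (z * x * z⁻¹) with ht
      have htQ : t ∈ Qv := Qv.mul_mem (Qv.inv_mem hx) (hQvz x hx)
      have htinv : z * t * z⁻¹ = t⁻¹ := by
        calc z * t * z⁻¹ = (z * x⁻¹ * z⁻¹) * ((z * z) * x * (z * z)⁻¹) := by rw [ht]; group
          _ = t⁻¹ := by rw [h.mul_self, ht]; group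
      have htz : t * z = z * t := by
        refine (Pmem t htQ ?_).symm
        rw [htinv]
        rcases hv'.sq t htQ with e | e
        · exact Or.inl (inv_eq_of_mul_eq_one_right e)
        · refine Or.inr (inv_eq_of_mul_eq_one_right ?_)
          rw [← mul_assoc, e, hv'.mul_self]
      have hty : y * t * y⁻¹ = t := mul_inv_eq_iff_eq_mul.2 (hyP t htQ htz).symm
      -- the commutators of `y` with `x` and with `z x z⁻¹` agree
      rcases hv'.conj_cases hy hx with c1 | c1
      · have c2 : y * (z * x * z⁻¹) * y⁻¹ = z * x * z⁻¹ := by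
          calc y * (z * x * z⁻¹) * y⁻¹ = (y * x * y⁻¹) * (y * t * y⁻¹) := by rw [ht]; group
            _ = z * x * z⁻¹ := by rw [c1, hty, ht]; group
        have c3 : (z * y * z⁻¹) * x * (z * y * z⁻¹)⁻¹ = x := by
          calc (z * y * z⁻¹) * x * (z * y * z⁻¹)⁻¹
              = z * (y * (z⁻¹ * x * z) * y⁻¹) * z⁻¹ := by group
            _ = z * (z * x * z⁻¹) * z⁻¹ := by rw [show z⁻¹ * x * z = z * x * z⁻¹ by rw [hzz], c2]
            _ = (z * z) * x * (z * z)⁻¹ := by group
            _ = x := by rw [h.mul_self]; group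
        refine (mul_inv_eq_iff_eq_mul.1 ?_).symm
        calc y⁻¹ * (z * y * z⁻¹) * x * (y⁻¹ * (z * y * z⁻¹))⁻¹
            = y⁻¹ * ((z * y * z⁻¹) * x * (z * y * z⁻¹)⁻¹) * y := by group
          _ = y⁻¹ * (y * x * y⁻¹) * y := by rw [c3, c1]
          _ = x := by group
      · have c2 : y * (z * x * z⁻¹) * y⁻¹ = z * x * z⁻¹ * v := by
          calc y * (z * x * z⁻¹) * y⁻¹ = (y * x * y⁻¹) * (y * t * y⁻¹) := by rw [ht]; group
            _ = x * (v * t) := by rw [c1, hty]; group
            _ = x * (t * v) := by rw [hv'.central t htQ]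
            _ = z * x * z⁻¹ * v := by rw [ht]; group
        have c3 : (z * y * z⁻¹) * x * (z * y * z⁻¹)⁻¹ = x * v := by
          calc (z * y * z⁻¹) * x * (z * y * z⁻¹)⁻¹
              = z * (y * (z⁻¹ * x * z) * y⁻¹) * z⁻¹ := by group
            _ = z * (z * x * z⁻¹ * v) * z⁻¹ := by rw [show z⁻¹ * x * z = z * x * z⁻¹ by rw [hzz], c2]
            _ = (z * z) * x * (z⁻¹ * v * z⁻¹) := by group
            _ = x * v := by rw [h.mul_self, hzz, hzv]; simp [mul_assoc, h.mul_self]
        refine (mul_inv_eq_iff_eq_mul.1 ?_).symm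
        calc y⁻¹ * (z * y * z⁻¹) * x * (y⁻¹ * (z * y * z⁻¹))⁻¹
            = y⁻¹ * ((z * y * z⁻¹) * x * (z * y * z⁻¹)⁻¹) * y := by group
          _ = y⁻¹ * (y * x * y⁻¹) * y := by rw [c3, c1]
          _ = x := by group
    refine (Pmem y hy ?_).symm
    rcases hv'.selfCent _ hkey with e | e
    · exact Or.inl (inv_mul_eq_one.1 e).symm
    · exact Or.inr (inv_mul_eq_iff_eq_mul.1 e)
  -- `C_Q(v)` acts on the big group by translations from `P`, which pairwise commute modulo `v`
  have trans : ∀ q ∈ Q, q * v = v * q → ∀ x ∈ Qv, ∃ p ∈ Qv, p * z = z * p ∧ q * x * q⁻¹ = x * p := by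
    intro q hq hqv x hx
    refine ⟨x⁻¹ * (q * x * q⁻¹), Qv.mul_mem (Qv.inv_mem hx) (hv'.norm q hqv x hx), ?_, by group⟩
    refine hPcent _ (Qv.mul_mem (Qv.inv_mem hx) (hv'.norm q hqv x hx)) fun p hp hpz => ?_
    have hqv' : q * v * q⁻¹ = v := mul_inv_eq_iff_eq_mul.2 hqv
    have hqp := cent p hp hpz q hq hqv
    have hpv : ∀ a ∈ Qv, a * v * a⁻¹ = v := fun a ha => mul_inv_eq_iff_eq_mul.2 (hv'.central a ha)
    have hxQ := hv'.norm q hqv x hx
    refine (mul_inv_eq_iff_eq_mul.1 ?_).symm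
    rcases hv'.conj_cases hx hp with c1 | c1
    · have c2 : (q * x * q⁻¹) * p * (q * x * q⁻¹)⁻¹ = p := by
        have e1 : (q * x * q⁻¹) * (q * p * q⁻¹) * (q * x * q⁻¹)⁻¹ = q * p * q⁻¹ := by
          calc _ = q * (x * p * x⁻¹) * q⁻¹ := by group
            _ = _ := by rw [c1]
        rcases hqp with e | e <;> rw [e] at e1
        · exact e1
        · exact mul_right_cancel (b := v) (by
            calc (q * x * q⁻¹) * p * (q * x * q⁻¹)⁻¹ * v
                = (q * x * q⁻¹) * p * (q * x * q⁻¹)⁻¹ * ((q * x * q⁻¹) * v * (q * x * q⁻¹)⁻¹) := by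
                  rw [hpv _ hxQ]
              _ = (q * x * q⁻¹) * (p * v) * (q * x * q⁻¹)⁻¹ := by group
              _ = p * v := e1)
      calc x⁻¹ * (q * x * q⁻¹) * p * (x⁻¹ * (q * x * q⁻¹))⁻¹
          = x⁻¹ * ((q * x * q⁻¹) * p * (q * x * q⁻¹)⁻¹) * x := by group
        _ = x⁻¹ * (x * p * x⁻¹) * x := by rw [c2, c1]
        _ = p := by group
    · have c2 : (q * x * q⁻¹) * p * (q * x * q⁻¹)⁻¹ = p * v := by
        have e1 : (q * x * q⁻¹) * (q * p * q⁻¹) * (q * x * q⁻¹)⁻¹ = q * p * q⁻¹ * v := by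
          calc _ = q * (x * p * x⁻¹) * q⁻¹ := by group
            _ = q * p * q⁻¹ * (q * v * q⁻¹) := by rw [c1]; group
            _ = _ := by rw [hqv']
        rcases hqp with e | e <;> rw [e] at e1
        · exact e1
        · exact mul_right_cancel (b := v) (by
            calc (q * x * q⁻¹) * p * (q * x * q⁻¹)⁻¹ * v
                = (q * x * q⁻¹) * p * (q * x * q⁻¹)⁻¹ * ((q * x * q⁻¹) * v * (q * x * q⁻¹)⁻¹) := by
                  rw [hpv _ hxQ]
              _ = (q * x * q⁻¹) * (p * v) * (q * x * q⁻¹)⁻¹ := by group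
              _ = p * v * v := e1)
      calc x⁻¹ * (q * x * q⁻¹) * p * (x⁻¹ * (q * x * q⁻¹))⁻¹
          = x⁻¹ * ((q * x * q⁻¹) * p * (q * x * q⁻¹)⁻¹) * x := by group
        _ = x⁻¹ * (x * p * x⁻¹) * x := by rw [c2, c1]
        _ = p := by group
  -- the commutator `z` centralizes the big group
  have hfix : ∀ y ∈ Qv, z * y = y * z := by
    intro y hy
    refine Pmem y hy ?_
    have hbainv : (b * a)⁻¹ * v = v * (b * a)⁻¹ :=
      (Commute.inv_left (Commute.mul_left (show Commute b v from hbv) hav) : Commute _ v)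
    set x := (b * a)⁻¹ * y * (b * a) with hxdef
    have hx : x ∈ Qv := by
      have := hv'.norm _ hbainv y hy
      rwa [inv_inv] at this
    obtain ⟨pa, hpa, hpaz, hqa⟩ := trans a ha hav x hx
    obtain ⟨pb, hpb, hpbz, hqb⟩ := trans b hb hbv x hx
    have hzab : a * b = z * (b * a) := by rw [← hab]; group
    have e1 : z * y * z⁻¹ = x * pa * (a * pb * a⁻¹) := by
      calc z * y * z⁻¹ = (a * b) * x * (a * b)⁻¹ := by rw [hzab, hxdef]; group
        _ = a * (b * x * b⁻¹) * a⁻¹ := by group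
        _ = (a * x * a⁻¹) * (a * pb * a⁻¹) := by rw [hqb]; group
        _ = x * pa * (a * pb * a⁻¹) := by rw [hqa]
    have e2 : y = x * pb * (b * pa * b⁻¹) := by
      calc y = (b * a) * x * (b * a)⁻¹ := by rw [hxdef]; group
        _ = b * (a * x * a⁻¹) * b⁻¹ := by group
        _ = (b * x * b⁻¹) * (b * pa * b⁻¹) := by rw [hqa]; group
        _ = x * pb * (b * pa * b⁻¹) := by rw [hqb]
    have hmod : ∃ e : G, (e = 1 ∨ e = v) ∧ z * y * z⁻¹ = x * pa * pb * e := by
      rcases cent pb hpb hpbz a ha hav with e | e <;> rw [e] at e1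
      · exact ⟨1, Or.inl rfl, by rw [e1, mul_one]⟩
      · exact ⟨v, Or.inr rfl, by rw [e1]; group⟩
    have hmod2 : ∃ e : G, (e = 1 ∨ e = v) ∧ y = x * pb * pa * e := by
      rcases cent pa hpa hpaz b hb hbv with e | e <;> rw [e] at e2
      · exact ⟨1, Or.inl rfl, by rw [e2, mul_one]⟩
      · exact ⟨v, Or.inr rfl, by rw [e2]; group⟩
    obtain ⟨e, he, he1⟩ := hmod
    obtain ⟨f, hf, hf1⟩ := hmod2
    have hvv := hv'.mul_self
    have hsub : ∀ c : G, (c = 1 ∨ c = v) → ∀ d : G, (d = 1 ∨ d = v) → c * d = 1 ∨ c * d = v := by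
      rintro c (rfl | rfl) d (rfl | rfl) <;> simp [hvv]
    have hab' : ∃ c : G, (c = 1 ∨ c = v) ∧ pa * pb = pb * pa * c := by
      rcases hv'.comm pb⁻¹ (Qv.inv_mem hpb) pa hpa with c | c
      · refine ⟨1, Or.inl rfl, ?_⟩
        calc pa * pb = pb * (pb⁻¹ * pa * pb⁻¹⁻¹ * pa⁻¹) * pa := by group
          _ = pb * pa * 1 := by rw [c]; group
      · refine ⟨v, Or.inr rfl, ?_⟩
        calc pa * pb = pb * (pb⁻¹ * pa * pb⁻¹⁻¹ * pa⁻¹) * pa := by group
          _ = pb * (pa * v) := by rw [c, hv'.central pa hpa]; group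
          _ = _ := by group
    obtain ⟨c, hc, hc1⟩ := hab'
    have hff : f * f = 1 := by rcases hf with rfl | rfl <;> simp [hvv]
    have e3 : z * y * z⁻¹ = y * (f * (c * e)) := by
      rw [he1, hf1]
      calc x * pa * pb * e = x * (pa * pb) * e := by group
        _ = x * pb * pa * (1 * (c * e)) := by rw [hc1]; group
        _ = x * pb * pa * f * (f * (c * e)) := by rw [← hff]; group
    rcases hsub f hf (c * e) (hsub c hc e he) with h' | h' <;> rw [h'] at e3
    · exact Or.inl (by rw [e3, mul_one])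
    · exact Or.inr e3
  rcases hv'.selfCent z fun q hq => (hfix q hq).symm with e | e
  · exact h.ne_one e
  · exact hne e.symm

end XPair

end CfsgLib.LargeXS
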