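import Mathlib

/-! The index of a centralizer inside a subgroup, as the size of a conjugation orbit. -/

set_option autoImplicit false

namespace CfsgLib.LargeXS

variable {G : Type*} [Group G]

theorem relIndex_centralizer (N : Subgroup G) (a : G) :
    (Subgroup.centralizer ({a} : Set G)).relIndex N = Set.ncard {b : G | ∃ n ∈ N, n * a * n⁻¹ = b} := by
  set S := (Subgroup.centralizer ({a} : Set G)).subgroupOf N with hS
  rw [Subgroup.relIndex, Subgroup.index, ← Nat.card_coe_set_eq]
  have key : ∀ m n : N, QuotientGroup.leftRel S m n ↔ (m : G) * a * (m : G)⁻¹ = n * a * (n : G)⁻¹ := by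
    intro m n
    rw [QuotientGroup.leftRel_apply, hS, Subgroup.mem_subgroupOf, Subgroup.coe_mul, Subgroup.coe_inv,
      Subgroup.mem_centralizer_singleton_iff]
    constructor
    · intro h
      calc (m : G) * a * (m : G)⁻¹ = m * (a * ((m : G)⁻¹ * n)) * (n : G)⁻¹ := by group
        _ = m * ((m : G)⁻¹ * n * a) * (n : G)⁻¹ := by rw [h]
        _ = n * a * (n : G)⁻¹ := by group
    · intro h
      calc (m : G)⁻¹ * n * a = (m : G)⁻¹ * (n * a * (n : G)⁻¹) * n := by group
        _ = (m : G)⁻¹ * (m * a * (m : G)⁻¹) * n := by rw [h]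
        _ = a * ((m : G)⁻¹ * n) := by group
  refine Nat.card_congr (Equiv.ofBijective
    (fun q => Quotient.liftOn' q (fun m : N => (⟨(m : G) * a * (m : G)⁻¹, m, m.2, rfl⟩ :
      {b : G | ∃ n ∈ N, n * a * n⁻¹ = b})) fun m n h => Subtype.ext ((key m n).1 h)) ⟨?_, ?_⟩)
  · intro x y h
    induction x using Quotient.inductionOn' with
    | _ m =>
      induction y using Quotient.inductionOn' with
      | _ n => exact Quotient.sound' ((key m n).2 (congrArg Subtype.val h))
  · rintro ⟨b, n, hn, rfl⟩
    exact ⟨Quotient.mk'' ⟨n, hn⟩, rfl⟩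

end CfsgLib.LargeXS
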