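import Mathlib
import Cfsg.Agent.Lib.LargeXSpecial.Pair

/-! Two conjugate extraspecial subgroups `Q`, `Q'` with centres `⟨z⟩`, `⟨v⟩`, `z ∈ Q'`, `v ∈ Q`. -/

set_option autoImplicit false

namespace CfsgLib.LargeXS

variable {G : Type*} [Group G]

/-- The configuration: `v` is a conjugate of `z` in `Q`, and `z` lies in the corresponding conjugate `Q'`. -/
structure XConfig (Q Q' : Subgroup G) (z v : G) : Prop where
  left : XPair Q z
  right : XPair Q' v
  v_mem : v ∈ Q
  z_mem : z ∈ Q'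
  ne : v ≠ z

theorem xconfig_of [Finite G] {Q : Subgroup G} {z : G} (h : XPair Q z) {g : G}
    (hgH : g ∉ Subgroup.centralizer ({z} : Set G)) (hgQ : g * z * g⁻¹ ∈ Q) (hcard : 16 ≤ Nat.card Q) :
    XConfig Q (Q.map (MulAut.conj g).toMonoidHom) z (g * z * g⁻¹) where
  left := h
  right := h.conjugate g
  v_mem := hgQ
  z_mem := h.mem_conjugate_of_mem hgQ
    (fun e => hgH (Subgroup.mem_centralizer_singleton_iff.2 (mul_inv_eq_iff_eq_mul.1 e))) hcard
  ne := fun e => hgH (Subgroup.mem_centralizer_singleton_iff.2 (mul_inv_eq_iff_eq_mul.1 e))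

namespace XConfig

/-- The four-group. -/
abbrev four (z v : G) : Subgroup G := Subgroup.closure ({z, v} : Set G)

/-- `(Q' ∩ C(z)) (Q ∩ C(v))`. -/
abbrev rad (Q Q' : Subgroup G) (z v : G) : Subgroup G :=
  (Q' ⊓ Subgroup.centralizer ({z} : Set G)) ⊔ (Q ⊓ Subgroup.centralizer ({v} : Set G))

variable {Q Q' : Subgroup G} {z v : G} (h : XConfig Q Q' z v)

include h

theorem symm' : XConfig Q' Q v z := ⟨h.right, h.left, h.z_mem, h.v_mem, h.ne.symm⟩

theorem comm_vz : v * z = z * v := h.left.central v h.v_mem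

theorem ne_w : v * z ≠ z ∧ v * z ≠ v ∧ v * z ≠ 1 :=
  ⟨fun e => h.right.ne_one (by simpa using e), fun e => h.left.ne_one (by simpa using e), fun e => h.ne (by
    rw [eq_inv_of_mul_eq_one_left e, inv_eq_of_mul_eq_one_right h.left.mul_self])⟩

theorem z_mem_four : z ∈ four z v := Subgroup.subset_closure (Set.mem_insert _ _)
theorem v_mem_four : v ∈ four z v := Subgroup.subset_closure (Set.mem_insert_of_mem _ rfl)

theorem mem_four {x : G} (hx : x ∈ four z v) : x = 1 ∨ x = z ∨ x = v ∨ x = v * z := by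
  have hzz := h.left.mul_self
  have hvv := h.right.mul_self
  have hzv := h.comm_vz.symm
  have e1 : z * (v * z) = v := by rw [← mul_assoc, hzv, mul_assoc, hzz, mul_one]
  have e2 : v * (v * z) = z := by rw [← mul_assoc, hvv, one_mul]
  have e3 : v * z * v = z := by rw [mul_assoc, hzv, e2]
  have e4 : v * z * z = v := by rw [mul_assoc, hzz, mul_one]
  induction hx using Subgroup.closure_induction with
  | mem y hy => rcases hy with rfl | rfl <;> simp
  | one => simp
  | mul a b _ _ ha hb =>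
    rcases ha with rfl | rfl | rfl | rfl <;> rcases hb with rfl | rfl | rfl | rfl <;>
      simp [hzz, hvv, hzv, e1, e2, e3, e4, mul_assoc]
  | inv a _ ha =>
    rcases ha with rfl | rfl | rfl | rfl
    · simp
    · simp [inv_eq_of_mul_eq_one_right hzz]
    · simp [inv_eq_of_mul_eq_one_right hvv]
    · simp [inv_eq_of_mul_eq_one_right hzz, inv_eq_of_mul_eq_one_right hvv, hzv]

theorem mem_centralizer_four {y : G} :
    y ∈ Subgroup.centralizer (four z v : Set G) ↔ y * z = z * y ∧ y * v = v * y := by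
  rw [Subgroup.centralizer_closure, Subgroup.mem_centralizer_iff]
  simp only [Set.mem_insert_iff, Set.mem_singleton_iff, forall_eq_or_imp, forall_eq]
  exact ⟨fun ⟨h1, h2⟩ => ⟨h1.symm, h2.symm⟩, fun ⟨h1, h2⟩ => ⟨h1.symm, h2.symm⟩⟩

omit h in
theorem rad_le : rad Q Q' z v ≤ Q ⊔ Q' :=
  sup_le (inf_le_left.trans le_sup_right) (inf_le_left.trans le_sup_left)

theorem rad_le_centralizer : rad Q Q' z v ≤ Subgroup.centralizer (four z v : Set G) := by
  refine sup_le (fun y hy => h.mem_centralizer_four.2 ⟨?_, ?_⟩) (fun y hy => h.mem_centralizer_four.2 ⟨?_, ?_⟩)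
  · exact Subgroup.mem_centralizer_singleton_iff.1 hy.2
  · exact h.right.central y hy.1
  · exact h.left.central y hy.1
  · exact Subgroup.mem_centralizer_singleton_iff.1 hy.2

/-- Each member of one group normalizes the radical. -/
theorem left_conj_rad {q : G} (hq : q ∈ Q) {r : G} (hr : r ∈ rad Q Q' z v) :
    q * r * q⁻¹ ∈ rad Q Q' z v := by
  have hfix : ∀ p : G, p * z = z * p → p * v = v * p → (q * p * q⁻¹) * v = v * (q * p * q⁻¹) := by
    intro p hpz hpv
    have hw : p * (v * z) = v * z * p := (Commute.mul_right (show Commute p v from hpv) hpz).eq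
    rcases h.left.conj_cases (Q.inv_mem hq) h.v_mem with e | e <;> rw [inv_inv] at e
    · calc q * p * q⁻¹ * v = q * (p * (q⁻¹ * v * q)) * q⁻¹ := by group
        _ = q * ((q⁻¹ * v * q) * p) * q⁻¹ := by rw [e, hpv]
        _ = v * (q * p * q⁻¹) := by group
    · calc q * p * q⁻¹ * v = q * (p * (q⁻¹ * v * q)) * q⁻¹ := by group
        _ = q * ((q⁻¹ * v * q) * p) * q⁻¹ := by rw [e, hw]
        _ = v * (q * p * q⁻¹) := by group
  rw [rad, Subgroup.sup_eq_closure] at hr
  induction hr using Subgroup.closure_induction with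
  | mem p hp =>
   rcases hp with hp | hp
   ·
    have hpz := Subgroup.mem_centralizer_singleton_iff.1 hp.2
    have h1 : q * p * q⁻¹ * p⁻¹ ∈ Q := by
      have := Q.mul_mem hq (h.left.norm p hpz q⁻¹ (Q.inv_mem hq))
      simpa [mul_assoc] using this
    have h2 : (q * p * q⁻¹ * p⁻¹) * v = v * (q * p * q⁻¹ * p⁻¹) := by
      have e1 : Commute (q * p * q⁻¹) v := hfix p hpz (h.right.central p hp.1)
      have e2 : Commute p⁻¹ v := Commute.inv_left (h.right.central p hp.1)
      exact (e1.mul_left e2).eq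
    have : q * p * q⁻¹ = (q * p * q⁻¹ * p⁻¹) * p := by group
    rw [this]
    exact Subgroup.mul_mem _ (Subgroup.mem_sup_right ⟨h1, Subgroup.mem_centralizer_singleton_iff.2 h2⟩)
      (Subgroup.mem_sup_left hp)
   ·
    exact Subgroup.mem_sup_right ⟨Q.mul_mem (Q.mul_mem hq hp.1) (Q.inv_mem hq),
      Subgroup.mem_centralizer_singleton_iff.2 (hfix p (h.left.central p hp.1)
        (Subgroup.mem_centralizer_singleton_iff.1 hp.2))⟩
  | one => simp
  | mul a b _ _ ha hb =>
    have : q * (a * b) * q⁻¹ = (q * a * q⁻¹) * (q * b * q⁻¹) := by group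
    rw [this]; exact Subgroup.mul_mem _ ha hb
  | inv a _ ha =>
    have : q * a⁻¹ * q⁻¹ = (q * a * q⁻¹)⁻¹ := by group
    rw [this]; exact Subgroup.inv_mem _ ha

theorem le_normalizer_rad : Q ⊔ Q' ≤ Subgroup.normalizer (rad Q Q' z v : Set G) := by
  refine sup_le (fun q hq => Subgroup.mem_normalizer_iff.2 fun r => ⟨h.left_conj_rad hq, fun hr => ?_⟩)
    (fun q hq => Subgroup.mem_normalizer_iff.2 fun r => ?_)
  · simpa [mul_assoc] using h.left_conj_rad (Q.inv_mem hq) hr
  · have e : rad Q Q' z v = rad Q' Q v z := sup_comm _ _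
    rw [e]
    exact ⟨h.symm'.left_conj_rad hq, fun hr => by
      simpa [mul_assoc] using h.symm'.left_conj_rad (Q'.inv_mem hq) hr⟩

theorem conj_rad {y : G} (hy : y ∈ Q ⊔ Q') {r : G} (hr : r ∈ rad Q Q' z v) :
    y * r * y⁻¹ ∈ rad Q Q' z v :=
  (Subgroup.mem_normalizer_iff.1 (h.le_normalizer_rad hy) r).1 hr

/-- The three groups: a conjugate of `Q'` by `Q` and of `Q` by `Q'` share the centre `v z`, so coincide. -/
theorem third_eq {q x : G} (hq : q ∈ Q) (hqv : q * v * q⁻¹ = v * z) (hx : x ∈ Q')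
    (hxz : x * z * x⁻¹ = z * v) {g : G} (hg : Q' = Q.map (MulAut.conj g).toMonoidHom) (hgz : g * z * g⁻¹ = v)
    {y : G} (hy : y ∈ Q') : x⁻¹ * (q * y * q⁻¹) * x ∈ Q := by
  rw [hg, mem_map_conj] at hy
  have hc : (x⁻¹ * q * g) * z = z * (x⁻¹ * q * g) := by
    calc x⁻¹ * q * g * z = x⁻¹ * (q * (g * z * g⁻¹) * q⁻¹) * (q * g) := by group
      _ = x⁻¹ * (x * z * x⁻¹) * (q * g) := by rw [hgz, hqv, hxz, h.comm_vz]
      _ = z * (x⁻¹ * q * g) := by group
  have := h.left.norm _ hc _ hy
  convert this using 1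
  group

end XConfig

end CfsgLib.LargeXS
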