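import Mathlib
import Cfsg.Agent.Lib.LargeXSpecial.Pair

/-! Subgroups of an extraspecial 2-subgroup that are again extraspecial. -/

set_option autoImplicit false

namespace CfsgLib.LargeXS

variable {G : Type*} [Group G] [Finite G] {Q : Subgroup G} {z : G}

/-- A subgroup of `Q` not inside `⟨z⟩` whose centre is inside `⟨z⟩` is extraspecial with centre `⟨z⟩`. -/
theorem XPair.isExtraspecial_of_center_le (h : XPair Q z) {R : Subgroup G} (hRQ : R ≤ Q)
    (hne : ∃ r ∈ R, r ≠ 1 ∧ r ≠ z)
    (hcen : ∀ x ∈ R, (∀ r ∈ R, r * x = x * r) → x = 1 ∨ x = z) :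
    Cfsg.IsExtraspecial 2 R ∧ z ∈ R := by
  haveI : Fact (Nat.Prime 2) := ⟨Nat.prime_two⟩
  obtain ⟨r, hr, hr1, hrz⟩ := hne
  have hR2 : IsPGroup 2 R := h.two.to_le hRQ
  haveI : Nontrivial R := (Subgroup.nontrivial_iff_exists_ne_one R).2 ⟨r, hr, hr1⟩
  have hcenter : ∀ x : R, x ∈ Subgroup.center R ↔ (x : G) = 1 ∨ (x : G) = z := by
    intro x
    rw [Subgroup.mem_center_iff]
    constructor
    · exact fun hx => hcen x x.2 fun s hs => congrArg Subtype.val (hx ⟨s, hs⟩)
    · rintro (e | e) y <;> apply Subtype.ext <;> simp only [Subgroup.coe_mul, e]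
      · simp
      · exact h.central _ (hRQ y.2)
  obtain ⟨⟨c, hc⟩, hc1⟩ := (nontrivial_iff_exists_ne (1 : Subgroup.center R)).1 hR2.center_nontrivial
  have hcz : (c : G) = z := ((hcenter c).1 hc).resolve_left fun e => hc1 (Subtype.ext (Subtype.ext e))
  have hzR : z ∈ R := hcz ▸ c.2
  -- some square equals `z`
  obtain ⟨s, hs, hsz⟩ : ∃ s ∈ R, s * s = z := by
    by_contra hcon
    push Not at hcon
    have hinv : ∀ x ∈ R, x⁻¹ = x := fun x hx =>
      inv_eq_of_mul_eq_one_right ((h.sq x (hRQ hx)).resolve_right (hcon x hx))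
    have := hcen r hr fun x hx => by
      calc x * r = (x * r)⁻¹ := (hinv _ (R.mul_mem hx hr)).symm
        _ = r * x := by rw [mul_inv_rev, hinv x hx, hinv r hr]
    exact this.elim hr1 hrz
  have hzf : (⟨z, hzR⟩ : R) ∈ frattini R := by
    have := sq_mem_frattini hR2 ⟨s, hs⟩
    convert this using 1
    exact Subtype.ext hsz.symm
  have hcf : Subgroup.center R ≤ frattini R := by
    intro x hx
    rcases (hcenter x).1 hx with e | e
    · rw [show x = 1 from Subtype.ext e]; exact one_mem _
    · rw [show x = ⟨z, hzR⟩ from Subtype.ext e]; exact hzf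
  have hfc : frattini R ≤ Subgroup.center R := by
    intro x hx
    by_contra hxc
    obtain ⟨M, hMmem, hMmax⟩ := (Set.toFinite {M : Subgroup R | Subgroup.center R ≤ M ∧ x ∉ M}).exists_maximal
      ⟨Subgroup.center R, le_rfl, hxc⟩
    obtain ⟨hMc, hxM⟩ := hMmem
    have hxor : ∀ y : R, y ∈ M ∨ x * y ∈ M := by
      intro y
      by_contra hcon
      push Not at hcon
      obtain ⟨hyM, hxyM⟩ := hcon
      haveI : M.Normal := ⟨fun m hm g => by
        have : g * m * g⁻¹ * m⁻¹ ∈ M := by
          apply hMc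
          rw [hcenter]
          simpa using h.comm g (hRQ g.2) m (hRQ m.2)
        simpa using M.mul_mem this hm⟩
      have hlt : M < M ⊔ Subgroup.zpowers y := lt_of_le_of_ne le_sup_left fun e =>
        hyM (e ▸ Subgroup.mem_sup_right (Subgroup.mem_zpowers y))
      have hxsup : x ∈ M ⊔ Subgroup.zpowers y := by
        by_contra hxs
        exact hlt.not_ge (hMmax ⟨hMc.trans le_sup_left, hxs⟩ hlt.le)
      rw [← SetLike.mem_coe, Subgroup.normal_mul, Set.mem_mul] at hxsup
      obtain ⟨m, hm, y', hy', e⟩ := hxsup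
      obtain ⟨k, rfl⟩ := Subgroup.mem_zpowers_iff.1 hy'
      have hy2 : y ^ (2 : ℤ) ∈ M := by
        apply hMc
        rw [hcenter, zpow_two]
        simpa using h.sq y (hRQ y.2)
      rcases Int.even_or_odd' k with ⟨j, rfl | rfl⟩
      · apply hxM
        rw [← e, zpow_mul]
        exact M.mul_mem hm (M.zpow_mem hy2 _)
      · apply hxyM
        rw [← e, zpow_add_one, zpow_mul, mul_assoc, mul_assoc, ← zpow_two]
        exact M.mul_mem hm (M.mul_mem (M.zpow_mem hy2 _) hy2)
    have hMcoatom : IsCoatom M := by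
      refine ⟨fun e => hxM (e ▸ Subgroup.mem_top _), fun N hN => ?_⟩
      obtain ⟨y, hyN, hyM⟩ := SetLike.exists_of_lt hN
      have hxy := (hxor y).resolve_left hyM
      have hxN : x ∈ N := by simpa using N.mul_mem (hN.le hxy) (N.inv_mem hyN)
      refine (Subgroup.eq_top_iff' _).2 fun w => ?_
      rcases hxor w with h' | h'
      · exact hN.le h'
      · simpa using N.mul_mem (N.inv_mem hxN) (hN.le h')
    exact hxM ((frattini_le_coatom hMcoatom) hx)
  have hfr : frattini R = Subgroup.center R := le_antisymm hfc hcf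
  have hcl : commutator R ≤ Subgroup.center R := by
    rw [commutator_def, Subgroup.commutator_le]
    intro a _ b _
    rw [hcenter]
    simpa [commutatorElement_def] using h.comm a (hRQ a.2) b (hRQ b.2)
  obtain ⟨a, ha, b, hb, hab⟩ : ∃ a ∈ R, ∃ b ∈ R, a * b * a⁻¹ * b⁻¹ = z := by
    by_contra hcon
    push Not at hcon
    have := hcen r hr fun q hq => mul_inv_eq_iff_eq_mul.1 (mul_inv_eq_one.1
      ((h.comm q (hRQ hq) r (hRQ hr)).resolve_right (hcon q hq r hr)))
    exact this.elim hr1 hrz
  have hzc : (⟨z, hzR⟩ : R) ∈ commutator R := by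
    have := Subgroup.commutator_mem_commutator (Subgroup.mem_top (⟨a, ha⟩ : R)) (Subgroup.mem_top (⟨b, hb⟩ : R))
    rw [← commutator_def] at this
    convert this using 1
    exact Subtype.ext (by simpa [commutatorElement_def] using hab.symm)
  refine ⟨⟨⟨hR2, hfr, le_antisymm hcl fun x hx => ?_⟩, ?_⟩, hzR⟩
  · rcases (hcenter x).1 hx with e | e
    · rw [show x = 1 from Subtype.ext e]; exact one_mem _
    · rw [show x = ⟨z, hzR⟩ from Subtype.ext e]; exact hzc
  · rw [← SetLike.coe_sort_coe, Nat.card_coe_set_eq,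
      show ((Subgroup.center R : Subgroup R) : Set R) = {(1 : R), ⟨z, hzR⟩} from ?_]
    · exact Set.ncard_pair fun e => h.ne_one (congrArg Subtype.val e).symm
    · ext x
      rw [SetLike.mem_coe, hcenter, Set.mem_insert_iff, Set.mem_singleton_iff, Subtype.ext_iff, Subtype.ext_iff]
      rfl

end CfsgLib.LargeXS
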