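import Mathlib
import Cfsg.Agent.Lib.LargeXSpecial.Config

/-! The group generated by the two extraspecial groups acts on the four-group as the symmetric group of degree 3. -/

set_option autoImplicit false

namespace CfsgLib.LargeXS.XConfig

theorem perm_three_cases : ∀ σ : Equiv.Perm (Fin 3), σ = 1 ∨ σ = Equiv.swap 1 2 ∨ σ = Equiv.swap 0 2 ∨
    σ = Equiv.swap 1 2 * Equiv.swap 0 2 ∨ σ = Equiv.swap 0 2 * Equiv.swap 1 2 ∨
    σ = Equiv.swap 1 2 * Equiv.swap 0 2 * Equiv.swap 1 2 := by decide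

variable {G : Type*} [Group G] {Q Q' : Subgroup G} {z v : G} (h : XConfig Q Q' z v)
include h

theorem left_cases {q : G} (hq : q ∈ Q) :
    q * z * q⁻¹ = z ∧ (q * v * q⁻¹ = v ∨ q * v * q⁻¹ = v * z) :=
  ⟨mul_inv_eq_iff_eq_mul.2 (h.left.central q hq), h.left.conj_cases hq h.v_mem⟩

theorem normalize_of [Finite G] {a : G} (h1 : a * z * a⁻¹ ∈ four z v) (h2 : a * v * a⁻¹ ∈ four z v) :
    a ∈ Subgroup.normalizer (four z v : Set G) := by
  rw [Subgroup.mem_normalizer_iff_conj_image_eq, ← MulEquiv.coe_toMonoidHom, ← Subgroup.coe_map,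
    SetLike.coe_set_eq]
  refine Subgroup.eq_of_le_of_card_ge ?_
    (le_of_eq (Subgroup.card_map_of_injective (MulAut.conj a).injective).symm)
  unfold four at h1 h2 ⊢
  rw [MonoidHom.map_closure, Subgroup.closure_le]
  rintro _ ⟨y, rfl | rfl, rfl⟩
  exacts [h1, h2]

theorem le_normalizer_four [Finite G] : Q ⊔ Q' ≤ Subgroup.normalizer (four z v : Set G) := by
  refine sup_le (fun q hq => h.normalize_of ?_ ?_) (fun q hq => h.normalize_of ?_ ?_)
  · rw [(h.left_cases hq).1]; exact h.z_mem_four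
  · rcases (h.left_cases hq).2 with e | e <;> rw [e]
    · exact h.v_mem_four
    · exact Subgroup.mul_mem _ h.v_mem_four h.z_mem_four
  · rcases (h.symm'.left_cases hq).2 with e | e <;> rw [e]
    · exact h.z_mem_four
    · exact Subgroup.mul_mem _ h.z_mem_four h.v_mem_four
  · rw [(h.symm'.left_cases hq).1]; exact h.v_mem_four

theorem exists_swaps : ∃ q ∈ Q, ∃ x ∈ Q', q * v * q⁻¹ = v * z ∧ x * z * x⁻¹ = z * v := by
  obtain ⟨q, hq, hqv⟩ := h.left.exists_conj_eq_mul h.v_mem h.right.ne_one h.ne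
  obtain ⟨x, hx, hxz⟩ := h.right.exists_conj_eq_mul h.z_mem h.left.ne_one h.ne.symm
  exact ⟨q, hq, x, hx, hqv, hxz⟩

theorem swap_table {q x : G} (hq : q ∈ Q) (hx : x ∈ Q') (hqv : q * v * q⁻¹ = v * z)
    (hxz : x * z * x⁻¹ = z * v) :
    q * z * q⁻¹ = z ∧ q * (v * z) * q⁻¹ = v ∧ x * v * x⁻¹ = v ∧ x * (v * z) * x⁻¹ = z := by
  have hqz := (h.left_cases hq).1
  have hxv := (h.symm'.left_cases hx).1
  refine ⟨hqz, ?_, hxv, ?_⟩
  · calc q * (v * z) * q⁻¹ = (q * v * q⁻¹) * (q * z * q⁻¹) := by group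
      _ = v := by rw [hqv, hqz, mul_assoc, h.left.mul_self, mul_one]
  · calc x * (v * z) * x⁻¹ = (x * v * x⁻¹) * (x * z * x⁻¹) := by group
      _ = v * (z * v) := by rw [hxv, hxz]
      _ = z := by rw [← mul_assoc, h.comm_vz, mul_assoc, h.right.mul_self, mul_one]

theorem sq_mem_rad {q : G} (hq : q ∈ Q) : q * q ∈ rad Q Q' z v := by
  rcases h.left.sq q hq with e | e <;> rw [e]
  · exact one_mem _
  · exact Subgroup.mem_sup_left ⟨h.z_mem, Subgroup.mem_centralizer_singleton_iff.2 rfl⟩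

theorem sq_mem_rad' {x : G} (hx : x ∈ Q') : x * x ∈ rad Q Q' z v := by
  have e : rad Q Q' z v = rad Q' Q v z := sup_comm _ _
  rw [e]; exact h.symm'.sq_mem_rad hx

/-- Every element of `Q ⊔ Q'` centralizing the four-group lies in the radical. -/
theorem mem_rad_of_mem_centralizer {g : G} (hg : Q' = Q.map (MulAut.conj g).toMonoidHom)
    (hgz : g * z * g⁻¹ = v) {y : G} (hy : y ∈ Q ⊔ Q')
    (hyV : y ∈ Subgroup.centralizer (four z v : Set G)) : y ∈ rad Q Q' z v := by
  obtain ⟨q, hq, x, hx, hqv, hxz⟩ := h.exists_swaps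
  obtain ⟨hqz, hqw, hxv, hxw⟩ := h.swap_table hq hx hqv hxz
  set R := rad Q Q' z v with hR
  have hqX : q ∈ Q ⊔ Q' := Subgroup.mem_sup_left hq
  have hxX : x ∈ Q ⊔ Q' := Subgroup.mem_sup_right hx
  have cj : ∀ a ∈ Q ⊔ Q', ∀ r ∈ R, a⁻¹ * r * a ∈ R := fun a ha r hr => by
    simpa using h.conj_rad (inv_mem ha) hr
  -- braid relation modulo the radical
  obtain ⟨rb, hrb, hbraid⟩ : ∃ r ∈ R, x * q * x = q * x * q * r := by
    set t := x⁻¹ * (q * x * q⁻¹) * x with ht
    have htQ : t ∈ Q := h.third_eq hq hqv hx hxz hg hgz hx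
    have htv : t * v * t⁻¹ = v * z := by
      have e1 : q⁻¹ * v * q = v * z := by
        calc q⁻¹ * v * q = q⁻¹ * (q * (v * z) * q⁻¹) * q := by rw [hqw]
          _ = v * z := by group
      calc t * v * t⁻¹ = x⁻¹ * (q * (x * (q⁻¹ * (x * v * x⁻¹) * q) * x⁻¹) * q⁻¹) * x := by rw [ht]; group
        _ = x⁻¹ * z * x := by rw [hxv, e1, hxw, hqz]
        _ = x⁻¹ * (x * (v * z) * x⁻¹) * x := by rw [hxw]
        _ = v * z := by group
    have h1 : t⁻¹ * q ∈ R := by
      refine Subgroup.mem_sup_right ⟨Q.mul_mem (Q.inv_mem htQ) hq,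
        Subgroup.mem_centralizer_singleton_iff.2 (mul_inv_eq_iff_eq_mul.1 ?_)⟩
      calc t⁻¹ * q * v * (t⁻¹ * q)⁻¹ = t⁻¹ * (q * v * q⁻¹) * t := by group
        _ = t⁻¹ * (t * v * t⁻¹) * t := by rw [hqv, htv]
        _ = v := by group
    have h2 := h.conj_rad hxX h1
    refine ⟨(q * q)⁻¹ * (x * (t⁻¹ * q) * x⁻¹) * (x * x), R.mul_mem (R.mul_mem
      (R.inv_mem (h.sq_mem_rad hq)) h2) (h.sq_mem_rad' hx), ?_⟩
    rw [ht]; group
  let P : G → Prop := fun y => ∃ w ∈ ({1, q, x, q * x, x * q, q * x * q} : Set G), ∃ r ∈ R, y = w * r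
  have Pq : ∀ y, P y → P (q * y) := by
    rintro y ⟨w, hw, r, hr, rfl⟩
    simp only [Set.mem_insert_iff, Set.mem_singleton_iff] at hw
    rcases hw with e | e | e | e | e | e <;> rw [e] <;> clear e
    · exact ⟨q, by simp, r, hr, by group⟩
    · exact ⟨1, by simp, q * q * r, R.mul_mem (h.sq_mem_rad hq) hr, by group⟩
    · exact ⟨q * x, by simp, r, hr, by group⟩
    · exact ⟨x, by simp, x⁻¹ * (q * q) * x * r, R.mul_mem (cj x hxX _ (h.sq_mem_rad hq)) hr, by group⟩
    · exact ⟨q * x * q, by simp, r, hr, by group⟩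
    · refine ⟨x * q, by simp, (x * q)⁻¹ * (q * q) * (x * q) * r,
        R.mul_mem (cj _ (mul_mem hxX hqX) _ (h.sq_mem_rad hq)) hr, by group⟩
  have Px : ∀ y, P y → P (x * y) := by
    rintro y ⟨w, hw, r, hr, rfl⟩
    simp only [Set.mem_insert_iff, Set.mem_singleton_iff] at hw
    rcases hw with e | e | e | e | e | e <;> rw [e] <;> clear e
    · exact ⟨x, by simp, r, hr, by group⟩
    · exact ⟨x * q, by simp, r, hr, by group⟩
    · exact ⟨1, by simp, x * x * r, R.mul_mem (h.sq_mem_rad' hx) hr, by group⟩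
    · refine ⟨q * x * q, by simp, rb * r, R.mul_mem hrb hr, ?_⟩
      rw [← mul_assoc (q * x * q), ← hbraid]; group
    · exact ⟨q, by simp, q⁻¹ * (x * x) * q * r, R.mul_mem (cj q hqX _ (h.sq_mem_rad' hx)) hr, by group⟩
    · refine ⟨q * x, by simp, (q * x)⁻¹ * (x * x) * (q * x) * rb⁻¹ * r,
        R.mul_mem (R.mul_mem (cj _ (mul_mem hqX hxX) _ (h.sq_mem_rad' hx)) (R.inv_mem hrb)) hr, ?_⟩
      have e : q * x * q = x * q * x * rb⁻¹ := by rw [hbraid]; group
      rw [e]; group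
  have PR : ∀ r ∈ R, ∀ y, P y → P (r * y) := by
    rintro r hr y ⟨w, hw, r', hr', rfl⟩
    have hwX : w ∈ Q ⊔ Q' := by
      simp only [Set.mem_insert_iff, Set.mem_singleton_iff] at hw
      rcases hw with e | e | e | e | e | e <;> rw [e]
      exacts [one_mem _, hqX, hxX, mul_mem hqX hxX, mul_mem hxX hqX, mul_mem (mul_mem hqX hxX) hqX]
    exact ⟨w, hw, w⁻¹ * r * w * r', R.mul_mem (cj w hwX r hr) hr', by group⟩
  have PQ : ∀ a ∈ Q, ∀ y, P y → P (a * y) := by
    intro a ha y hy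
    rcases (h.left_cases ha).2 with e | e
    · exact PR a (Subgroup.mem_sup_right ⟨ha, Subgroup.mem_centralizer_singleton_iff.2
        (mul_inv_eq_iff_eq_mul.1 e)⟩) y hy
    · have hm : q⁻¹ * a ∈ R := by
        refine Subgroup.mem_sup_right ⟨Q.mul_mem (Q.inv_mem hq) ha,
          Subgroup.mem_centralizer_singleton_iff.2 (mul_inv_eq_iff_eq_mul.1 ?_)⟩
        calc q⁻¹ * a * v * (q⁻¹ * a)⁻¹ = q⁻¹ * (a * v * a⁻¹) * q := by group
          _ = q⁻¹ * (q * v * q⁻¹) * q := by rw [e, hqv]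
          _ = v := by group
      have := Pq _ (PR _ hm y hy)
      rwa [← mul_assoc, mul_inv_cancel_left] at this
  have PQ' : ∀ a ∈ Q', ∀ y, P y → P (a * y) := by
    intro a ha y hy
    rcases (h.symm'.left_cases ha).2 with e | e
    · exact PR a (Subgroup.mem_sup_left ⟨ha, Subgroup.mem_centralizer_singleton_iff.2
        (mul_inv_eq_iff_eq_mul.1 e)⟩) y hy
    · have hm : x⁻¹ * a ∈ R := by
        refine Subgroup.mem_sup_left ⟨Q'.mul_mem (Q'.inv_mem hx) ha,
          Subgroup.mem_centralizer_singleton_iff.2 (mul_inv_eq_iff_eq_mul.1 ?_)⟩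
        calc x⁻¹ * a * z * (x⁻¹ * a)⁻¹ = x⁻¹ * (a * z * a⁻¹) * x := by group
          _ = x⁻¹ * (x * z * x⁻¹) * x := by rw [e, hxz]
          _ = z := by group
      have := Px _ (PR _ hm y hy)
      rwa [← mul_assoc, mul_inv_cancel_left] at this
  have hall : P y := by
    clear hyV
    rw [Subgroup.sup_eq_closure] at hy
    induction hy using Subgroup.closure_induction_left with
    | one => exact ⟨1, by simp, 1, one_mem _, by simp⟩
    | mul_left a ha y _ ih => exact ha.elim (fun ha => PQ a ha y ih) (fun ha => PQ' a ha y ih)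
    | inv_mul_cancel a ha y _ ih =>
      exact ha.elim (fun ha => PQ _ (Q.inv_mem ha) y ih) (fun ha => PQ' _ (Q'.inv_mem ha) y ih)
  obtain ⟨w, hw, r, hr, rfl⟩ := hall
  have hwV : w ∈ Subgroup.centralizer (four z v : Set G) := by
    simpa using Subgroup.mul_mem _ hyV (inv_mem (h.rad_le_centralizer hr))
  obtain ⟨hcz, hcv⟩ := h.mem_centralizer_four.1 hwV
  have hcz' : w * z * w⁻¹ = z := mul_inv_eq_iff_eq_mul.2 hcz
  have hcv' : w * v * w⁻¹ = v := mul_inv_eq_iff_eq_mul.2 hcv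
  simp only [Set.mem_insert_iff, Set.mem_singleton_iff] at hw
  obtain ⟨nw1, nw2, -⟩ := h.ne_w
  rcases hw with e | e | e | e | e | e <;> rw [e] at hcz' hcv' ⊢ <;> clear e
  · simpa using hr
  · rw [hqv] at hcv'; exact absurd hcv' nw2
  · rw [hxz, ← h.comm_vz] at hcz'; exact absurd hcz' nw1
  · refine absurd (hcz'.symm.trans ?_) h.ne.symm
    calc q * x * z * (q * x)⁻¹ = q * (x * z * x⁻¹) * q⁻¹ := by group
      _ = q * (v * z) * q⁻¹ := by rw [hxz, h.comm_vz]
      _ = v := hqw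
  · refine absurd (hcz'.symm.trans ?_).symm nw1
    calc x * q * z * (x * q)⁻¹ = x * (q * z * q⁻¹) * x⁻¹ := by group
      _ = v * z := by rw [hqz, hxz, h.comm_vz]
  · refine absurd (hcz'.symm.trans ?_) h.ne.symm
    calc q * x * q * z * (q * x * q)⁻¹ = q * (x * (q * z * q⁻¹) * x⁻¹) * q⁻¹ := by group
      _ = q * (v * z) * q⁻¹ := by rw [hqz, hxz, h.comm_vz]
      _ = v := hqw

/-- The action of the normalizer of the four-group on its three involutions. -/
theorem exists_action [Finite G] :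
    ∃ φ : Subgroup.normalizer (four z v : Set G) →* Equiv.Perm (Fin 3),
      (∀ n, φ n = 1 ↔ (n : G) ∈ Subgroup.centralizer (four z v : Set G)) ∧
      ∀ σ, ∃ n : Subgroup.normalizer (four z v : Set G), (n : G) ∈ Q ⊔ Q' ∧ φ n = σ := by
  obtain ⟨q, hq, x, hx, hqv, hxz⟩ := h.exists_swaps
  obtain ⟨hqz, hqw, hxv, hxw⟩ := h.swap_table hq hx hqv hxz
  obtain ⟨nw1, nw2, nw3⟩ := h.ne_w
  set N := Subgroup.normalizer (four z v : Set G)
  let p : Fin 3 → G := ![z, v, v * z]
  have pinj : Function.Injective p := by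
    intro i j e
    fin_cases i <;> fin_cases j <;> simp [p] at e <;>
      first
      | rfl
      | exact absurd e.symm h.ne
      | exact absurd e h.ne
      | exact absurd e.symm nw1
      | exact absurd e nw1
      | exact absurd e.symm nw2
      | exact absurd e nw2
      | exact absurd e h.left.ne_one
      | exact absurd e h.right.ne_one
  have pmem : ∀ i, p i ∈ four z v ∧ p i ≠ 1 := by
    intro i
    fin_cases i
    · exact ⟨h.z_mem_four, h.left.ne_one⟩
    · exact ⟨h.v_mem_four, h.right.ne_one⟩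
    · exact ⟨Subgroup.mul_mem _ h.v_mem_four h.z_mem_four, nw3⟩
  have hex : ∀ (n : N) (i : Fin 3), ∃ j, p j = (n : G) * p i * (n : G)⁻¹ := by
    intro n i
    have hm := (Subgroup.mem_normalizer_iff.1 n.2 (p i)).1 (pmem i).1
    rcases h.mem_four hm with e | e | e | e
    · exact absurd (conj_eq_one_iff.1 e) (pmem i).2
    · exact ⟨0, e.symm⟩
    · exact ⟨1, e.symm⟩
    · exact ⟨2, e.symm⟩
  choose f hf using hex
  have fmul : ∀ m n i, f (m * n) i = f m (f n i) := fun m n i => pinj (by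
    rw [hf, hf, hf]; simp [mul_assoc])
  have fone : ∀ i, f 1 i = i := fun i => pinj (by rw [hf]; simp)
  let φ : N →* Equiv.Perm (Fin 3) :=
    { toFun := fun n => ⟨f n, f n⁻¹, fun i => by rw [← fmul, inv_mul_cancel, fone],
        fun i => by rw [← fmul, mul_inv_cancel, fone]⟩
      map_one' := Equiv.ext fone
      map_mul' := fun m n => Equiv.ext (fmul m n) }
  refine ⟨φ, fun n => ?_, ?_⟩
  · rw [h.mem_centralizer_four]
    constructor
    · intro e
      have e' : ∀ i, p i = (n : G) * p i * (n : G)⁻¹ := fun i => by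
        have := congrArg (fun σ : Equiv.Perm (Fin 3) => σ i) e
        simp only [Equiv.Perm.coe_one, id_eq] at this
        conv_lhs => rw [← this]
        exact hf n i
      exact ⟨mul_inv_eq_iff_eq_mul.1 (e' 0).symm, mul_inv_eq_iff_eq_mul.1 (e' 1).symm⟩
    · rintro ⟨e1, e2⟩
      refine Equiv.ext fun i => pinj ?_
      show p (f n i) = p i
      rw [hf]
      refine mul_inv_eq_iff_eq_mul.2 ?_
      fin_cases i
      · exact e1
      · exact e2
      · exact (Commute.mul_right (show Commute (n : G) v from e2) e1).eq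
  · have mk : ∀ (a : G) (ha : a ∈ N) (σ : Equiv.Perm (Fin 3)),
        (∀ i, a * p i * a⁻¹ = p (σ i)) → φ ⟨a, ha⟩ = σ := fun a ha σ e =>
      Equiv.ext fun i => pinj (by
        show p (f _ i) = p (σ i)
        rw [hf]; exact e i)
    have hqN : q ∈ N := h.le_normalizer_four (Subgroup.mem_sup_left hq)
    have hxN : x ∈ N := h.le_normalizer_four (Subgroup.mem_sup_right hx)
    have e1 : φ ⟨q, hqN⟩ = Equiv.swap 1 2 := mk q hqN _ (by
      intro i; fin_cases i
      · simpa [p, Equiv.swap_apply_def] using hqz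
      · simpa [p, Equiv.swap_apply_def] using hqv
      · simpa [p, Equiv.swap_apply_def] using hqw)
    have e2 : φ ⟨x, hxN⟩ = Equiv.swap 0 2 := mk x hxN _ (by
      intro i; fin_cases i
      · simpa [p, Equiv.swap_apply_def, h.comm_vz] using hxz
      · simpa [p, Equiv.swap_apply_def] using hxv
      · simpa [p, Equiv.swap_apply_def] using hxw)
    intro σ
    have hqX : q ∈ Q ⊔ Q' := Subgroup.mem_sup_left hq
    have hxX : x ∈ Q ⊔ Q' := Subgroup.mem_sup_right hx
    rcases perm_three_cases σ with rfl | rfl | rfl | rfl | rfl | rfl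
    · exact ⟨1, one_mem _, map_one φ⟩
    · exact ⟨_, hqX, e1⟩
    · exact ⟨_, hxX, e2⟩
    · exact ⟨⟨q, hqN⟩ * ⟨x, hxN⟩, mul_mem hqX hxX, by rw [map_mul, e1, e2]⟩
    · exact ⟨⟨x, hxN⟩ * ⟨q, hqN⟩, mul_mem hxX hqX, by rw [map_mul, e1, e2]⟩
    · exact ⟨⟨q, hqN⟩ * ⟨x, hxN⟩ * ⟨q, hqN⟩, mul_mem (mul_mem hqX hxX) hqX, by rw [map_mul, map_mul, e1, e2]⟩

end CfsgLib.LargeXS.XConfig
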