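import Mathlib
import Cfsg.Agent.Lib.LargeXSpecial.ConfigAction

/-! Structure of the radical of the pair configuration. -/

set_option autoImplicit false

namespace CfsgLib.LargeXS.XConfig

variable {G : Type*} [Group G] {Q Q' : Subgroup G} {z v : G} (h : XConfig Q Q' z v)
include h

theorem center_rad : (Subgroup.center (rad Q Q' z v)).map (rad Q Q' z v).subtype = four z v := by
  set R := rad Q Q' z v with hR
  have hP0 : ∀ p ∈ Q, p * v = v * p → p ∈ R := fun p hp hpv =>
    Subgroup.mem_sup_right ⟨hp, Subgroup.mem_centralizer_singleton_iff.2 hpv⟩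
  refine le_antisymm ?_ ?_
  · rintro _ ⟨⟨r, hr⟩, hrc, rfl⟩
    show r ∈ four z v
    have hrP : ∀ p ∈ Q, p * v = v * p → p * r = r * p := fun p hp hpv =>
      congrArg Subtype.val (Subgroup.mem_center_iff.1 hrc ⟨p, hP0 p hp hpv⟩)
    obtain ⟨hrz, hrv⟩ := h.mem_centralizer_four.1 (h.rad_le_centralizer hr)
    obtain ⟨q, hq, -, -, hqv, -⟩ := h.exists_swaps
    -- `e = q⁻¹ r q r⁻¹` centralizes `C_Q(v)`
    set e := q⁻¹ * (r * q * r⁻¹) with he
    have heQ : e ∈ Q := Q.mul_mem (Q.inv_mem hq) (h.left.norm r hrz q hq)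
    have hev : e * v = v * e := by
      refine mul_inv_eq_iff_eq_mul.1 ?_
      calc e * v * e⁻¹ = q⁻¹ * (r * (q * (r⁻¹ * v * r) * q⁻¹) * r⁻¹) * q := by rw [he]; group
        _ = q⁻¹ * (r * (v * z) * r⁻¹) * q := by rw [show r⁻¹ * v * r = v by rw [mul_assoc, ← hrv]; group, hqv]
        _ = q⁻¹ * (q * v * q⁻¹) * q := by
          rw [hqv, show r * (v * z) * r⁻¹ = v * z from
            mul_inv_eq_iff_eq_mul.2 (Commute.mul_right (show Commute r v from hrv) hrz).eq]
        _ = v := by group
    have hec : ∀ p ∈ Q, p * v = v * p → p * e = e * p := by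
      intro p hp hpv
      have hpr := hrP p hp hpv
      have hrp : r * p * r⁻¹ = p := mul_inv_eq_iff_eq_mul.2 hpr.symm
      refine (mul_inv_eq_iff_eq_mul.1 ?_).symm
      rcases h.left.conj_cases hq hp with c | c
      · calc e * p * e⁻¹ = q⁻¹ * (r * (q * (r⁻¹ * p * r) * q⁻¹) * r⁻¹) * q := by rw [he]; group
          _ = q⁻¹ * p * q := by rw [show r⁻¹ * p * r = p by rw [mul_assoc, hpr]; group, c, hrp]
          _ = q⁻¹ * (q * p * q⁻¹) * q := by rw [c]
          _ = p := by group
      · calc e * p * e⁻¹ = q⁻¹ * (r * (q * (r⁻¹ * p * r) * q⁻¹) * r⁻¹) * q := by rw [he]; group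
          _ = q⁻¹ * ((r * p * r⁻¹) * (r * z * r⁻¹)) * q := by
            rw [show r⁻¹ * p * r = p by rw [mul_assoc, hpr]; group, c]; group
          _ = q⁻¹ * (q * p * q⁻¹) * q := by rw [hrp, mul_inv_eq_iff_eq_mul.2 hrz, c]
          _ = p := by group
    have split : ∀ a ∈ Q, a * v = v * a ∨ (q⁻¹ * a) * v = v * (q⁻¹ * a) := by
      intro a ha
      rcases h.left.conj_cases ha h.v_mem with e1 | e1
      · exact Or.inl (mul_inv_eq_iff_eq_mul.1 e1)
      · refine Or.inr (mul_inv_eq_iff_eq_mul.1 ?_)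
        calc q⁻¹ * a * v * (q⁻¹ * a)⁻¹ = q⁻¹ * (a * v * a⁻¹) * q := by group
          _ = q⁻¹ * (q * v * q⁻¹) * q := by rw [e1, hqv]
          _ = v := by group
    have full : ∀ f : G, (∀ p ∈ Q, p * v = v * p → p * f = f * p) → q * f = f * q → f = 1 ∨ f = z := by
      intro f hf hqf
      refine h.left.selfCent f fun a ha => ?_
      rcases split a ha with h' | h'
      · exact hf a ha h'
      · have c1 : Commute (q⁻¹ * a) f := hf _ (Q.mul_mem (Q.inv_mem hq) ha) h'
        have c2 := (Commute.mul_left (show Commute q f from hqf) c1).eq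
        simpa using c2
    have hrq : r * q * r⁻¹ = q * e := by rw [he]; group
    have hqz : q * z * q⁻¹ = z := (h.left_cases hq).1
    -- `e` is `1` or `z`
    have hecases : e = 1 ∨ e = z := by
      by_cases hqe : q * e = e * q
      · exact full e hec hqe
      · exfalso
        rcases h.left.conj_cases hq heQ with c | c
        · exact hqe (mul_inv_eq_iff_eq_mul.1 c)
        have hev2 : q * (e * v) = (e * v) * q := by
          refine mul_inv_eq_iff_eq_mul.1 ?_
          calc q * (e * v) * q⁻¹ = (q * e * q⁻¹) * (q * v * q⁻¹) := by group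
            _ = e * (z * v) * z := by rw [c, hqv]; group
            _ = e * v * (z * z) := by rw [← h.comm_vz]; group
            _ = e * v := by rw [h.left.mul_self, mul_one]
        -- squares are preserved by conjugation with `r`, but not by multiplication with `e`
        have hsq : (q * e) * (q * e) = q * q := by
          have hq2 : r * (q * q) * r⁻¹ = q * q := by
            rcases h.left.sq q hq with c' | c' <;> rw [c']
            · group
            · exact mul_inv_eq_iff_eq_mul.2 hrz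
          calc (q * e) * (q * e) = r * (q * q) * r⁻¹ := by rw [← hrq]; group
            _ = q * q := hq2
        have hee : e * e = z := by
          have h1 : q⁻¹ * e * q = e * z := by
            calc q⁻¹ * e * q = q⁻¹ * ((q * e * q⁻¹) * (z⁻¹)) * q := by rw [c]; group
              _ = e * (q⁻¹ * z⁻¹ * q) := by group
              _ = e * z := by
                rw [show q⁻¹ * z⁻¹ * q = (q⁻¹ * z * q)⁻¹ by group,
                  show q⁻¹ * z * q = z by rw [mul_assoc, ← h.left.central q hq]; group,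
                  inv_eq_of_mul_eq_one_right h.left.mul_self]
          have h2 : (q⁻¹ * e * q) * e = 1 := by
            calc (q⁻¹ * e * q) * e = (q * q)⁻¹ * ((q * e) * (q * e)) := by group
              _ = 1 := by rw [hsq, inv_mul_cancel]
          rw [h1, mul_assoc, ← h.left.central e heQ, ← mul_assoc] at h2
          rw [eq_inv_of_mul_eq_one_left h2, inv_eq_of_mul_eq_one_right h.left.mul_self]
        rcases full (e * v) (fun p hp hpv => (Commute.mul_right (hec p hp hpv) hpv).eq) hev2 with f | f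
        · have : e = v := by rw [eq_inv_of_mul_eq_one_left f, inv_eq_of_mul_eq_one_right h.right.mul_self]
          rw [this, h.right.mul_self] at hee
          exact h.left.ne_one hee.symm
        · have : e = z * v := by
            calc e = e * v * v⁻¹ := by group
              _ = z * v := by rw [f, inv_eq_of_mul_eq_one_right h.right.mul_self]
          rw [this] at hee
          have : z * v * (z * v) = 1 := by
            calc z * v * (z * v) = z * (v * z) * v := by group
              _ = z * z * (v * v) := by rw [h.comm_vz]; group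
              _ = 1 := by rw [h.left.mul_self, h.right.mul_self, one_mul]
          exact h.left.ne_one (hee.symm.trans this)
    rcases hecases with e1 | e1
    · rw [e1, mul_one] at hrq
      rcases full r (fun p hp hpv => hrP p hp hpv) (mul_inv_eq_iff_eq_mul.1 hrq).symm with f | f <;> rw [f]
      · exact one_mem _
      · exact h.z_mem_four
    · rw [e1] at hrq
      have hrv' : q * (r * v) = (r * v) * q := by
        refine (mul_inv_eq_iff_eq_mul.1 ?_).symm
        have hvq : v * q * v⁻¹ = q * z := by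
          calc v * q * v⁻¹ = q * ((q⁻¹ * v * q) * v⁻¹) := by group
            _ = q * (v * z * v⁻¹) := by
              rw [show q⁻¹ * v * q = v * z from by
                calc q⁻¹ * v * q = q⁻¹ * (q * v * q⁻¹ * (q * z⁻¹ * q⁻¹)) * q := by
                      rw [hqv, show q * z⁻¹ * q⁻¹ = (q * z * q⁻¹)⁻¹ by group, hqz]; group
                  _ = v * z⁻¹ := by group
                  _ = v * z := by rw [inv_eq_of_mul_eq_one_right h.left.mul_self]]
            _ = q * z := by rw [h.comm_vz]; group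
        calc r * v * q * (r * v)⁻¹ = r * (v * q * v⁻¹) * r⁻¹ := by group
          _ = (r * q * r⁻¹) * (r * z * r⁻¹) := by rw [hvq]; group
          _ = q := by rw [hrq, mul_inv_eq_iff_eq_mul.2 hrz, mul_assoc, h.left.mul_self, mul_one]
      rcases full (r * v) (fun p hp hpv => (Commute.mul_right (hrP p hp hpv) hpv).eq) hrv' with f | f
      · rw [eq_inv_of_mul_eq_one_left f]; exact Subgroup.inv_mem _ h.v_mem_four
      · rw [show r = z * v⁻¹ by rw [← f]; group]
        exact Subgroup.mul_mem _ h.z_mem_four (Subgroup.inv_mem _ h.v_mem_four)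
  · intro y hy
    have hyR : y ∈ R := by
      refine (Subgroup.closure_le _).2 ?_ hy
      rintro a (rfl | rfl)
      · exact Subgroup.mem_sup_left ⟨h.z_mem, Subgroup.mem_centralizer_singleton_iff.2 rfl⟩
      · exact hP0 _ h.v_mem rfl
    refine ⟨⟨y, hyR⟩, Subgroup.mem_center_iff.2 fun s => Subtype.ext ?_, rfl⟩
    exact (h.rad_le_centralizer s.2 y hy).symm

theorem inf_eq : (Q' ⊓ Subgroup.centralizer ({z} : Set G)) ⊓ (Q ⊓ Subgroup.centralizer ({v} : Set G))
    = Q ⊓ Q' :=
  le_antisymm (fun _ hy => ⟨hy.2.1, hy.1.1⟩) fun _ hy =>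
    ⟨⟨hy.2, Subgroup.mem_centralizer_singleton_iff.2 (h.left.central _ hy.1)⟩,
      ⟨hy.1, Subgroup.mem_centralizer_singleton_iff.2 (h.right.central _ hy.2)⟩⟩

theorem radical_structure [Finite G] :
    (Subgroup.center (rad Q Q' z v)).map (rad Q Q' z v).subtype = four z v ∧
    Q ⊓ Q' ≤ (Subgroup.upperCentralSeries (rad Q Q' z v) 2).map (rad Q Q' z v).subtype ∧
    Subgroup.upperCentralSeries (rad Q Q' z v) 3 = ⊤ ∧
    Cfsg.IsElementaryAbelian 2 (Q ⊓ Q' : Subgroup G) ∧
    (∀ x ∈ rad Q Q' z v, ∀ y ∈ rad Q Q' z v, x * y * x⁻¹ * y⁻¹ ∈ Q ⊓ Q' ∧ x ^ 2 ∈ Q ⊓ Q') ∧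
    (Q' ⊓ Subgroup.centralizer ({z} : Set G)) ⊓ (Q ⊓ Subgroup.centralizer ({v} : Set G)) = Q ⊓ Q' ∧
    ⁅Q ⊔ Q', Q ⊓ Q'⁆ ≤ four z v := by
  set R := rad Q Q' z v with hR
  set E := Q ⊓ Q' with hE
  set V := four z v with hV
  have hVZ : ∀ y : R, (y : G) ∈ V → y ∈ Subgroup.center R := by
    intro y hy
    obtain ⟨c, hc, hcy⟩ := h.center_rad.symm.le hy
    rwa [← (Subtype.ext hcy : c = y)]
  have hcQ : ∀ a ∈ Q, ∀ b ∈ Q, a * b * a⁻¹ * b⁻¹ ∈ V := fun a ha b hb => by
    rcases h.left.comm a ha b hb with e | e <;> rw [e]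
    exacts [one_mem _, h.z_mem_four]
  have hcQ' : ∀ a ∈ Q', ∀ b ∈ Q', a * b * a⁻¹ * b⁻¹ ∈ V := fun a ha b hb => by
    rcases h.right.comm a ha b hb with e | e <;> rw [e]
    exacts [one_mem _, h.v_mem_four]
  -- `[Q ⊔ Q', E] ≤ V`
  have hXE : ∀ y ∈ Q ⊔ Q', ∀ e ∈ E, y * e * y⁻¹ * e⁻¹ ∈ V := by
    intro y hy
    have hn : ∀ a ∈ Q ⊔ Q', ∀ b ∈ V, a * b * a⁻¹ ∈ V := fun a ha b hb =>
      (Subgroup.mem_normalizer_iff.1 (h.le_normalizer_four ha) b).1 hb
    have hy' : y ∈ Subgroup.closure ((Q : Set G) ∪ Q') := (Subgroup.sup_eq_closure Q Q') ▸ hy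
    clear hy
    induction hy' using Subgroup.closure_induction with
    | mem a ha => exact fun e he => ha.elim (fun ha => hcQ a ha e he.1) (fun ha => hcQ' a ha e he.2)
    | one => intro e _; simp
    | mul a b ha' hb' ha hb =>
      intro e he
      have : a * b * e * (a * b)⁻¹ * e⁻¹ = (a * (b * e * b⁻¹ * e⁻¹) * a⁻¹) * (a * e * a⁻¹ * e⁻¹) := by group
      rw [this]
      exact mul_mem (hn a ((Subgroup.sup_eq_closure Q Q').symm ▸ ha') _ (hb e he)) (ha e he)
    | inv a ha' ha =>
      intro e he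
      have : a⁻¹ * e * a⁻¹⁻¹ * e⁻¹ = a⁻¹ * (a * e * a⁻¹ * e⁻¹)⁻¹ * a⁻¹⁻¹ := by group
      rw [this]
      exact hn _ ((Subgroup.sup_eq_closure Q Q').symm ▸ inv_mem ha') _ (inv_mem (ha e he))
  have hER : E ≤ R := fun e he =>
    Subgroup.mem_sup_right ⟨he.1, Subgroup.mem_centralizer_singleton_iff.2 (h.right.central e he.2)⟩
  have hE2 : E.subgroupOf R ≤ Subgroup.upperCentralSeries R 2 := by
    intro e he
    rw [Subgroup.mem_upperCentralSeries_succ_iff]
    intro y
    rw [Subgroup.upperCentralSeries_one]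
    refine hVZ _ ?_
    have := inv_mem (hXE y (XConfig.rad_le y.2) e he)
    simpa [commutatorElement_def, mul_assoc] using this
  -- the quotient by `E` is elementary abelian
  have hVE : V ≤ E := (Subgroup.closure_le _).2 fun a ha => ha.elim
    (fun e => e ▸ ⟨h.left.mem, h.z_mem⟩) (fun e => e ▸ ⟨h.v_mem, h.right.mem⟩)
  haveI hEn : (E.subgroupOf R).Normal := ⟨fun e he y => by
    rw [Subgroup.mem_subgroupOf] at he ⊢
    have := E.mul_mem (hVE (hXE y (XConfig.rad_le y.2) e he)) he
    simpa using this⟩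
  have hmk : ∀ a b : R, (QuotientGroup.mk' (E.subgroupOf R) a * QuotientGroup.mk' (E.subgroupOf R) b
      = QuotientGroup.mk' (E.subgroupOf R) b * QuotientGroup.mk' (E.subgroupOf R) a) ∧
      (QuotientGroup.mk' (E.subgroupOf R) a) * (QuotientGroup.mk' (E.subgroupOf R) a) = 1 := by
    set f := QuotientGroup.mk' (E.subgroupOf R) with hf
    have hf1 : ∀ a : R, (a : G) ∈ E → f a = 1 := fun a ha => (QuotientGroup.eq_one_iff a).2 ha
    have hcomm1 : ∀ a b : R, (a : G) * b * (a : G)⁻¹ * (b : G)⁻¹ ∈ E → f a * f b = f b * f a := by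
      intro a b hab
      have := hf1 (a * b * a⁻¹ * b⁻¹) (by simpa using hab)
      rw [map_mul, map_mul, map_mul, map_inv, map_inv] at this
      exact mul_inv_eq_iff_eq_mul.1 (mul_inv_eq_one.1 this)
    have hP1n : ∀ p ∈ Q' ⊓ Subgroup.centralizer ({z} : Set G), ∀ q ∈ Q ⊓ Subgroup.centralizer ({v} : Set G),
        p * q * p⁻¹ * q⁻¹ ∈ E := by
      intro p hp q hq
      refine ⟨Q.mul_mem (h.left.norm p (Subgroup.mem_centralizer_singleton_iff.1 hp.2) q hq.1) (Q.inv_mem hq.1), ?_⟩
      have := Q'.mul_mem hp.1 (h.right.norm q (Subgroup.mem_centralizer_singleton_iff.1 hq.2) p⁻¹ (Q'.inv_mem hp.1))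
      simpa [mul_assoc] using this
    set S0 : Set G := ↑(Q' ⊓ Subgroup.centralizer ({z} : Set G)) ∪ ↑(Q ⊓ Subgroup.centralizer ({v} : Set G))
      with hS0
    have hS0R : ∀ a ∈ S0, a ∈ R := fun a ha => ha.elim (fun ha => Subgroup.mem_sup_left ha)
      (fun ha => Subgroup.mem_sup_right ha)
    have hsqg : ∀ a ∈ S0, a * a ∈ E := by
      rintro a (ha | ha)
      · rcases h.right.sq a ha.1 with e | e <;> rw [e]
        exacts [one_mem _, hVE h.v_mem_four]
      · rcases h.left.sq a ha.1 with e | e <;> rw [e]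
        exacts [one_mem _, hVE h.z_mem_four]
    have hcg : ∀ a ∈ S0, ∀ b ∈ S0, a * b * a⁻¹ * b⁻¹ ∈ E := by
      rintro a (ha | ha) b (hb | hb)
      · exact hVE (hcQ' a ha.1 b hb.1)
      · exact hP1n a ha b hb
      · simpa [mul_assoc] using E.inv_mem (hP1n b hb a ha)
      · exact hVE (hcQ a ha.1 b hb.1)
    have hgen : ∀ a : R, f a ∈ Subgroup.closure (f '' {x : R | (x : G) ∈ S0}) := by
      rintro ⟨a, ha⟩
      have ha' : a ∈ Subgroup.closure S0 := (Subgroup.sup_eq_closure _ _).le ha
      have key : ∀ b ∈ Subgroup.closure S0, ∀ hb : b ∈ R, f ⟨b, hb⟩ ∈ Subgroup.closure (f '' {x : R | (x : G) ∈ S0}) := by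
        intro b hb
        induction hb using Subgroup.closure_induction with
        | mem c hc => exact fun hb => Subgroup.subset_closure ⟨⟨c, hb⟩, hc, rfl⟩
        | one => intro hb; rw [show (⟨1, hb⟩ : R) = 1 from rfl, map_one]; exact one_mem _
        | mul c d hc' hd' hc hd =>
          intro hb
          have hcR : c ∈ R := (Subgroup.closure_le R).2 hS0R hc'
          have hdR : d ∈ R := (Subgroup.closure_le R).2 hS0R hd'
          rw [show (⟨c * d, hb⟩ : R) = ⟨c, hcR⟩ * ⟨d, hdR⟩ from rfl, map_mul]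
          exact mul_mem (hc hcR) (hd hdR)
        | inv c hc' hc =>
          intro hb
          have hcR : c ∈ R := (Subgroup.closure_le R).2 hS0R hc'
          rw [show (⟨c⁻¹, hb⟩ : R) = ⟨c, hcR⟩⁻¹ from rfl, map_inv]
          exact inv_mem (hc hcR)
      exact key a ha' ha
    intro a b
    constructor
    · have hle : Subgroup.closure (f '' {x : R | (x : G) ∈ S0}) ≤
          Subgroup.centralizer (f '' {x : R | (x : G) ∈ S0}) := by
        rw [Subgroup.closure_le]
        rintro _ ⟨c, hc, rfl⟩ _ ⟨d, hd, rfl⟩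
        exact hcomm1 d c (hcg _ hd _ hc)
      have h2 : f a ∈ Subgroup.centralizer (Subgroup.closure (f '' {x : R | (x : G) ∈ S0}) : Set (R ⧸ E.subgroupOf R)) := by
        rw [Subgroup.centralizer_closure]; exact hle (hgen a)
      exact (h2 _ (hgen b)).symm
    · refine (?_ : ∀ t ∈ Subgroup.closure (f '' {x : R | (x : G) ∈ S0}), t * t = 1) _ (hgen a)
      intro t ht
      induction ht using Subgroup.closure_induction with
      | mem c hc =>
        obtain ⟨c, hc, rfl⟩ := hc
        rw [← map_mul]; exact hf1 _ (hsqg _ hc)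
      | one => simp
      | mul c d hc' hd' hc hd =>
        have hle : Subgroup.closure (f '' {x : R | (x : G) ∈ S0}) ≤
            Subgroup.centralizer (f '' {x : R | (x : G) ∈ S0}) := by
          rw [Subgroup.closure_le]
          rintro _ ⟨c, hc, rfl⟩ _ ⟨d, hd, rfl⟩
          exact hcomm1 d c (hcg _ hd _ hc)
        have h2 : c ∈ Subgroup.centralizer (Subgroup.closure (f '' {x : R | (x : G) ∈ S0}) : Set (R ⧸ E.subgroupOf R)) := by
          rw [Subgroup.centralizer_closure]; exact hle hc'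
        calc c * d * (c * d) = c * (d * c) * d := by group
          _ = c * c * (d * d) := by rw [h2 d hd']; group
          _ = 1 := by rw [hc, hd, one_mul]
      | inv c _ hc => rw [← mul_inv_rev, hc, inv_one]
  have hquot : ∀ x ∈ R, ∀ y ∈ R, x * y * x⁻¹ * y⁻¹ ∈ E ∧ x ^ 2 ∈ E := by
    intro x hx y hy
    obtain ⟨h1, h2⟩ := hmk ⟨x, hx⟩ ⟨y, hy⟩
    constructor
    · have : (QuotientGroup.mk' (E.subgroupOf R)) (⟨x, hx⟩ * ⟨y, hy⟩ * ⟨x, hx⟩⁻¹ * ⟨y, hy⟩⁻¹) = 1 := by
        rw [map_mul, map_mul, map_mul, map_inv, map_inv, h1]; group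
      exact Subgroup.mem_subgroupOf.1 ((QuotientGroup.eq_one_iff (N := E.subgroupOf R) _).1 this)
    · rw [pow_two]
      rw [← map_mul] at h2
      exact Subgroup.mem_subgroupOf.1 ((QuotientGroup.eq_one_iff (N := E.subgroupOf R) _).1 h2)
  refine ⟨h.center_rad, fun e he => ⟨⟨e, hER he⟩, hE2 (Subgroup.mem_subgroupOf.2 he), rfl⟩, ?_, ⟨?_, ?_⟩,
    hquot, h.inf_eq, ?_⟩
  · refine (Subgroup.eq_top_iff' _).2 fun x => ?_
    rw [Subgroup.mem_upperCentralSeries_succ_iff]
    intro y
    exact hE2 (Subgroup.mem_subgroupOf.2 (by simpa [commutatorElement_def] using (hquot x x.2 y y.2).1))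
  · refine ⟨⟨fun a b => Subtype.ext ?_⟩⟩
    show (a : G) * b = b * a
    refine mul_inv_eq_iff_eq_mul.1 (mul_inv_eq_one.1 ?_)
    rcases h.left.comm a a.2.1 b b.2.1 with e | e
    · exact e
    · rcases h.right.comm a a.2.2 b b.2.2 with e' | e'
      · exact e'
      · exact absurd (e'.symm.trans e) h.ne
  · intro a ha
    rw [pow_two]
    rcases h.left.sq a ha.1 with e | e
    · exact e
    · rcases h.right.sq a ha.2 with e' | e'
      · exact e'
      · exact absurd (e'.symm.trans e) h.ne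
  · rw [Subgroup.commutator_le]
    intro y hy e he
    rw [commutatorElement_def]; exact hXE y hy e he

end CfsgLib.LargeXS.XConfig
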